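import Cfsg.Agent.Lib.Char.LinearOverNormal
import Cfsg.Agent.Lib.DegreeTools.ExtendTwist
import Mathlib.GroupTheory.Complement

/-!
# Extension across a subgroup acting trivially, and induction from an inertia group
-/

set_option autoImplicit false

namespace CfsgLib.Char.NoDivide

open CfsgLib CfsgLib.Char CfsgLib.Char.LinearOverNormal
open scoped commutatorElement

universe u

variable {T : Type u} [Group T] [Fintype T] {U : Subgroup T} [hU : U.Normal]

omit [Fintype T] in
theorem commutator_mem_normal (p : T) (u : U) : ⁅p, (u : T)⁆ ∈ U := by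
  rw [commutatorElement_def]
  exact mul_mem (hU.conj_mem _ u.2 p) (inv_mem u.2)

/-- An irreducible character of `U` whose kernel contains `[P, U]` extends to `U P`. -/
theorem exists_ext_sup (P : Subgroup T) (hd : Disjoint U P) {η : U → ℂ}
    (hη : Cfsg.IsIrrCharacter U η)
    (hk : ∀ p ∈ P, ∀ u : U, η ⟨⁅p, (u : T)⁆, commutator_mem_normal p u⟩ = η 1) :
    ∃ E : (U ⊔ P : Subgroup T) → ℂ, Cfsg.IsIrrCharacter (U ⊔ P : Subgroup T) E ∧
      ∀ (u : U) (p : T) (hp : p ∈ P),
        E ⟨(u : T) * p, mul_mem (Subgroup.mem_sup_left u.2) (Subgroup.mem_sup_right hp)⟩ = η u := by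
  classical
  obtain ⟨n, ρ, hρ, hρc⟩ := id hη
  set S : Subgroup T := U ⊔ P
  have hdec : ∀ x : S, ∃ u : U, ∃ p ∈ P, (x : T) = (u : T) * p := by
    rintro ⟨x, hx⟩
    obtain ⟨a, ha, b, hb, rfl⟩ := Subgroup.mem_sup_of_normal_left.1 hx
    exact ⟨⟨a, ha⟩, b, hb, rfl⟩
  choose uu pp hpp heq using hdec
  have huniq : ∀ (x : S) (u : U) (p : T), p ∈ P → (x : T) = (u : T) * p → uu x = u := by
    intro x u p hp he
    refine Subtype.ext ?_
    have h := Subgroup.mul_injective_of_disjoint hd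
      (show (((uu x : U) : U), (⟨pp x, hpp x⟩ : P)).1.1 * (((uu x : U), (⟨pp x, hpp x⟩ : P))).2.1 =
        ((u, (⟨p, hp⟩ : P))).1.1 * ((u, (⟨p, hp⟩ : P))).2.1 from (heq x).symm.trans he)
    exact congrArg (fun z => (z.1 : U).1) h
  have hker : ∀ p ∈ P, ∀ u : U, ρ ⟨⁅p, (u : T)⁆, commutator_mem_normal p u⟩ = 1 := fun p hp u => by
    rw [Module.End.one_eq_id, ← char_eq_finrank_iff, hρc, hk p hp u, ← hρc, Representation.char_one]
  have hmul : ∀ x y : S, ρ (uu (x * y)) = ρ (uu x) * ρ (uu y) := by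
    intro x y
    have he : ((x * y : S) : T) =
        ((uu x * (⟨⁅pp x, (uu y : T)⁆, commutator_mem_normal _ _⟩ * uu y) : U) : T) * (pp x * pp y) := by
      rw [Subgroup.coe_mul, heq x, heq y]
      simp only [Subgroup.coe_mul, commutatorElement_def]
      group
    rw [huniq _ _ _ (mul_mem (hpp x) (hpp y)) he, map_mul, map_mul, hker _ (hpp x), one_mul]
  have h1 : uu 1 = 1 := huniq 1 1 1 (one_mem P) (by simp)
  let σ : Representation ℂ S (Fin n → ℂ) :=
    { toFun := fun x => ρ (uu x), map_one' := by rw [h1, map_one], map_mul' := hmul }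
  refine ⟨σ.character, ?_, fun u p hp => ?_⟩
  · have hres : σ.comp (Subgroup.inclusion le_sup_left) = ρ := MonoidHom.ext fun u => by
      show ρ (uu ⟨u, _⟩) = ρ u
      rw [huniq _ u 1 (one_mem P) (by simp)]
    haveI := Fintype.ofFinite U
    haveI := Fintype.ofFinite S
    refine DegreeTools.ExtendTwist.isIrrCharacter_of_comp (Subgroup.inclusion le_sup_left)
      ⟨n, σ, rfl⟩ ?_
    have e : σ.character ∘ (Subgroup.inclusion le_sup_left : U →* S) = η := by
      rw [← hρc, ← hres]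
      rfl
    rw [e]
    exact hη
  · rw [← hρc]
    show LinearMap.trace ℂ _ (ρ (uu ⟨_, _⟩)) = _
    rw [huniq _ u p hp rfl]
    rfl

variable [Fintype U]

/-- An extension to the inertia group induces to a character of degree index times degree. -/
theorem exists_of_extension {η : U → ℂ} (hη : Cfsg.IsIrrCharacter U η) (S : Subgroup T)
    (hUS : U ≤ S) (hS : ∀ g, g ∈ S ↔ conjG η g = η) {E : S → ℂ} (hE : Cfsg.IsIrrCharacter S E)
    (hres : ∀ u : U, E ⟨u, hUS u.2⟩ = η u) :
    ∃ ψ : T → ℂ, Cfsg.IsIrrCharacter T ψ ∧ Over ψ η ∧ ψ 1 = (S.index : ℂ) * η 1 := by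
  classical
  haveI := Fintype.ofFinite S
  have hc : Cfsg.classInner (resLe hUS E) η = 1 := by
    rw [show resLe hUS E = η from funext hres, classInner_irr_self hη]
  have hI : IsInertia η S := fun g => (hS g).trans
    ⟨fun h x => congrFun h x, fun h => funext h⟩
  obtain ⟨h1, h2⟩ := indFun_inertia hUS hη hI hE (by rw [hc]; exact one_ne_zero)
  refine ⟨_, h1, ?_, ?_⟩
  · show Cfsg.classInner (fun u : U => Cfsg.indFun S E u) η ≠ 0
    rw [h2, hc]
    exact one_ne_zero
  · rw [indFun_one, ← hres 1]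
    rfl

end CfsgLib.Char.NoDivide
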