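import Mathlib

/-!
# Two facts about nilpotent groups
-/

set_option autoImplicit false

namespace CfsgLib.Char.NoDivide

universe u

variable {G : Type u} [Group G]

open scoped commutatorElement

/-- A subgroup of a nilpotent group strictly contains its commutator with the whole group. -/
theorem eq_bot_of_le_commutator [Group.IsNilpotent G] (W : Subgroup G)
    (h : W ≤ ⁅W, (⊤ : Subgroup G)⁆) : W = ⊥ := by
  obtain ⟨n, hn⟩ := Subgroup.nilpotent_iff_lowerCentralSeries.1 (inferInstance : Group.IsNilpotent G)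
  refine le_bot_iff.1 (hn ▸ ?_)
  clear hn
  induction n with
  | zero => simp
  | succ n ih =>
    refine h.trans ?_
    rw [Subgroup.lowerCentralSeries_succ]
    exact Subgroup.commutator_mono ih le_rfl

/-- A nilpotent group all of whose linear characters have exponent `s` is an `s`-group. -/
theorem isPGroup_of_hom_exponent [Finite G] [Group.IsNilpotent G] {s : ℕ} [Fact s.Prime]
    (h : ∀ φ : G →* ℂˣ, φ ^ s = 1) : IsPGroup s G := by
  classical
  let P : Sylow s G := default
  haveI hP : (P : Subgroup G).Normal :=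
    Sylow.normal_of_normalizerCondition Group.normalizerCondition_of_isNilpotent P
  by_cases hb : (P : Subgroup G) = ⊤
  · exact IsPGroup.of_equiv (hb ▸ P.2 : IsPGroup s (⊤ : Subgroup G)) Subgroup.topEquiv
  exfalso
  haveI : Nontrivial (G ⧸ (P : Subgroup G)) := QuotientGroup.nontrivial_iff.2 hb
  have hlt : commutator (G ⧸ (P : Subgroup G)) < ⊤ :=
    Group.IsSolvable.commutator_lt_top_of_nontrivial (G ⧸ (P : Subgroup G))
  obtain ⟨q, -, hq⟩ := SetLike.exists_of_lt hlt
  have hq : q ∉ commutator (G ⧸ (P : Subgroup G)) := hq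
  have : NeZero (Monoid.exponent (Abelianization (G ⧸ (P : Subgroup G))) : ℂ) :=
    ⟨by exact_mod_cast Monoid.exponent_ne_zero_of_finite⟩
  obtain ⟨φ, hφ⟩ := CommGroup.exists_apply_ne_one_of_hasEnoughRootsOfUnity
    (Abelianization (G ⧸ (P : Subgroup G))) ℂ (a := Abelianization.of q)
    (fun he => hq ((QuotientGroup.eq_one_iff q).1 he))
  refine hφ ?_
  obtain ⟨g, rfl⟩ := QuotientGroup.mk'_surjective (P : Subgroup G) q
  let f : (G ⧸ (P : Subgroup G)) →* ℂˣ := φ.comp Abelianization.of
  change f (QuotientGroup.mk' _ g) = 1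
  have h1 : f (QuotientGroup.mk' _ g) ^ s = 1 :=
    DFunLike.congr_fun (h (f.comp (QuotientGroup.mk' _))) g
  have h2 : f (QuotientGroup.mk' _ g) ^ (P : Subgroup G).index = 1 := by
    rw [← map_pow, show (QuotientGroup.mk' (P : Subgroup G) g) ^ (P : Subgroup G).index = 1 from
      pow_card_eq_one', map_one]
  have hd : ¬ s ∣ (P : Subgroup G).index := P.not_dvd_index
  have h3 := Nat.dvd_gcd (orderOf_dvd_of_pow_eq_one h1) (orderOf_dvd_of_pow_eq_one h2)
  rwa [((Fact.out : s.Prime).coprime_iff_not_dvd.2 hd).gcd_eq_one, Nat.dvd_one,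
    orderOf_eq_one_iff] at h3

end CfsgLib.Char.NoDivide
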