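import Cfsg.Agent.Lib.Char.NoDivide.Actions
import Cfsg.Agent.Lib.Char.NoDivide.Nilp
import Cfsg.Agent.Lib.Char.NoDivide.Extend
import Cfsg.Agent.Lib.DegreeTools.SolvableGraphComponents
import Cfsg.Agent.Lib.DegreeTools.Basic
import Cfsg.Agent.Lib.OddOrder.FPFTools

/-!
# A moved element of prime order coprime to the derived subgroup

Consequences for the action on the linear characters of the derived subgroup.
-/

set_option autoImplicit false

namespace CfsgLib.Char.NoDivide

open CfsgLib CfsgLib.Char CfsgLib.Char.LinearOverNormal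
open scoped commutatorElement

universe u

variable {T : Type u} [Group T] [Fintype T]

theorem exists_under [Fintype (commutator T)] {ψ : T → ℂ} (hψ : Cfsg.IsIrrCharacter T ψ)
    (hnl : ψ 1 ≠ 1) : ∃ θ : commutator T → ℂ, Cfsg.IsIrrCharacter (commutator T) θ ∧
      θ ≠ (fun _ => 1) ∧ Over ψ θ := by
  by_contra hcon
  push Not at hcon
  obtain ⟨m, hm, hsum⟩ := IsCharacter.exists_multiplicity
    (IsCharacter.restrict (IsIrrCharacter.isCharacter hψ) (commutator T))
  have key : ∀ n : commutator T, ψ n = ∑ φ : Cfsg.IrrCharacter (commutator T), (m φ : ℂ) := by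
    intro n
    rw [hsum n]
    refine Finset.sum_congr rfl fun φ _ => ?_
    rcases eq_or_ne (m φ) 0 with h0 | h0
    · simp [h0]
    · have hone : (φ : commutator T → ℂ) = fun _ => 1 := by
        by_contra hne
        exact hcon φ φ.2 hne (by rw [Over, hm φ]; exact_mod_cast h0)
      rw [hone, mul_one]
  refine hnl ?_
  have h := DegreeTools.SolvableGraph.charDegree_eq_one_of_trivial hψ fun n hn =>
    (key ⟨n, hn⟩).trans (key 1).symm
  have h2 := DegreeTools.charDegree_cast (IsIrrCharacter.isCharacter hψ)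
  rw [h, Nat.cast_one] at h2
  exact h2.symm

/-- In a group with an abelian complement of order `|T : T'|` to `T'`, moved elements act without
fixed points on `T'`. -/
theorem fpf_of_complement (σ : T ≃* T)
    (hfix : ∀ χ : T → ℂ, Cfsg.IsIrrCharacter T χ → χ 1 ≠ 1 → χ ∘ σ = χ) {C : Subgroup T}
    (hd : Disjoint (commutator T) C) (hcard : Nat.card C = (commutator T).index)
    (t : T) (ht : σ t * t⁻¹ ∉ commutator T) (u : T) (hu : u ∈ commutator T) (h : u * t = t * u) :
    u = 1 := by
  have hcomm : ∀ a ∈ C, ∀ b ∈ C, a * b = b * a := fun a ha b hb => by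
    have h1 : ⁅a, b⁆ ∈ commutator T ⊓ C := ⟨Subgroup.commutator_mem_commutator (Subgroup.mem_top a)
      (Subgroup.mem_top b), by
        rw [commutatorElement_def]
        exact C.mul_mem (C.mul_mem (C.mul_mem ha hb) (C.inv_mem ha)) (C.inv_mem hb)⟩
    rw [hd.eq_bot, Subgroup.mem_bot, commutatorElement_eq_one_iff_mul_comm] at h1
    exact h1
  have hcompl : Subgroup.IsComplement' (commutator T) C :=
    Subgroup.isComplement'_of_card_mul_and_disjoint (by rw [hcard, Subgroup.card_mul_index]) hd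
  obtain ⟨⟨w, c⟩, hwc⟩ := hcompl.2 t
  have hwc : (w : T) * c = t := hwc
  have hab : Abelianization.of t = Abelianization.of (c : T) := by
    rw [← hwc, map_mul, show Abelianization.of (w : T) = 1 from (QuotientGroup.eq_one_iff _).2 w.2,
      one_mul]
  obtain ⟨g, hg⟩ := isConj_iff.1 ((moved_classes σ hfix).1 t c ht (of_eq_of_iff.1 hab))
  have hc : σ c * (c : T)⁻¹ ∉ commutator T := by
    intro hh
    refine ht (mul_inv_mem_iff.2 ?_)
    rw [← abelianizationCongr_of σ, hab, abelianizationCongr_of]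
    exact mul_inv_mem_iff.1 hh
  have hle : C ≤ Subgroup.centralizer ({(c : T)} : Set T) := fun a ha =>
    Subgroup.mem_centralizer_singleton_iff.2 (hcomm a ha c c.2)
  have heq := Subgroup.eq_of_le_of_card_ge hle
    (by rw [card_centralizer_of_moved σ hfix hc, hcard])
  have hu2 : g * u * g⁻¹ ∈ C := by
    rw [heq]
    refine Subgroup.mem_centralizer_singleton_iff.2 ?_
    rw [← hg]
    calc g * u * g⁻¹ * (g * t * g⁻¹) = g * (u * t) * g⁻¹ := by group
      _ = g * (t * u) * g⁻¹ := by rw [h]
      _ = g * t * g⁻¹ * (g * u * g⁻¹) := by group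
  have h3 : g * u * g⁻¹ ∈ commutator T ⊓ C := ⟨Subgroup.Normal.conj_mem inferInstance u hu g, hu2⟩
  rw [hd.eq_bot, Subgroup.mem_bot] at h3
  exact conj_eq_one_iff.1 h3

theorem mem_inv_commutator (φ : commutator T →* ℂˣ) : φ ∈ Inv (commutator T) := fun u hu =>
  MonoidHom.ext fun w => by
    show φ (MulAut.conjNormal u w) = φ w
    rw [show MulAut.conjNormal u w = ⟨u, hu⟩ * w * (⟨u, hu⟩ : commutator T)⁻¹ from
      Subtype.ext (MulAut.conjNormal_apply u w), map_mul, map_mul, map_inv, mul_right_comm,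
      mul_inv_cancel, one_mul]

theorem hom_finite (H : Type u) [Group H] [Finite H] : Finite (H →* ℂˣ) :=
  Finite.of_injective (fun φ => (⟨fun g => (φ g : ℂ), isIrrCharacter_hom φ⟩ : Cfsg.IrrCharacter H))
    fun a b h => coe_hom_injective (congrArg Subtype.val h)

instance (W : Subgroup T) [W.Normal] : Finite (Inv W) :=
  haveI := hom_finite W
  inferInstance

/-- The kernel of the action on the linear characters of `T'`. -/
noncomputable def kerU (T : Type u) [Group T] [Fintype T] : Subgroup T :=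
  (actHom (commutator T)).ker

theorem mem_kerU {t : T} : t ∈ kerU T ↔ ∀ φ : commutator T →* ℂˣ, cj t φ = φ := by
  rw [kerU, ← inv_mem_iff, MonoidHom.mem_ker]
  refine ⟨fun h φ => ?_, fun h => MulEquiv.ext fun φ => Subtype.ext ?_⟩
  · have := congrArg Subtype.val (DFunLike.congr_fun h ⟨φ, mem_inv_commutator φ⟩)
    rwa [actHom_coe, inv_inv, MulAut.one_apply] at this
  · rw [actHom_coe, inv_inv, h, MulAut.one_apply]

theorem commutator_le_kerU : commutator T ≤ kerU T := fun u hu =>
  mem_kerU.2 fun φ => mem_inv_commutator φ u hu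

/-- `kerU` centralises `T'` modulo its derived subgroup. -/
theorem kerU_commutator {t : T} (ht : t ∈ kerU T) (u : commutator T) :
    (⟨⁅t, (u : T)⁆, commutator_mem_normal t u⟩ : commutator T) ∈ commutator (commutator T) := by
  by_contra hne
  have : NeZero (Monoid.exponent (Abelianization (commutator T)) : ℂ) :=
    ⟨by exact_mod_cast Monoid.exponent_ne_zero_of_finite⟩
  obtain ⟨φ, hφ⟩ := CommGroup.exists_apply_ne_one_of_hasEnoughRootsOfUnity
    (Abelianization (commutator T)) ℂ (fun he => hne ((QuotientGroup.eq_one_iff _).1 he))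
  refine hφ ?_
  have h := DFunLike.congr_fun (mem_kerU.1 ht (φ.comp Abelianization.of)) u
  have h2 : (⟨⁅t, (u : T)⁆, commutator_mem_normal t u⟩ : commutator T) =
      MulAut.conjNormal t u * u⁻¹ := Subtype.ext (by simp [commutatorElement_def])
  change φ (Abelianization.of _) = 1
  rw [h2, map_mul, map_inv, map_mul φ, map_inv φ]
  exact mul_inv_eq_one.2 h

variable (D : Setting T)

theorem sigma_commutator : ∀ w ∈ commutator T, D.σ w ∈ commutator T := fun w hw => by
  have h := Subgroup.map_commutator ⊤ ⊤ D.σ.toMonoidHom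
  rw [Subgroup.map_top_of_surjective _ D.σ.surjective] at h
  exact (h ▸ Subgroup.mem_map_of_mem D.σ.toMonoidHom hw : D.σ w ∈ ⁅(⊤ : Subgroup T), ⊤⁆)

/-- The fixed cosets are closed under `ℓ`-th roots. -/
theorem root_coset {φ : commutator T →* ℂˣ} (hφ : φ ≠ 1) (t : T)
    (ht : D.σ (t ^ D.ℓ) * (t ^ D.ℓ)⁻¹ ∈ commutator T) : D.σ t * t⁻¹ ∈ commutator T := by
  let B : Subgroup T :=
    { carrier := {a | Abelianization.of (D.σ a) = Abelianization.of a}
      one_mem' := by simp
      mul_mem' := fun {a b} ha hb => by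
        show Abelianization.of (D.σ (a * b)) = _
        rw [map_mul, map_mul, map_mul, ha, hb]
      inv_mem' := fun {a} ha => by
        show Abelianization.of (D.σ a⁻¹) = _
        rw [map_inv, map_inv, map_inv, ha] }
  have hB : commutator T ≤ B := fun a ha => by
    show Abelianization.of (D.σ a) = Abelianization.of a
    rw [show Abelianization.of a = 1 from (QuotientGroup.eq_one_iff _).2 ha,
      show Abelianization.of (D.σ a) = 1 from (QuotientGroup.eq_one_iff _).2 (sigma_commutator D a ha)]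
  exact mul_inv_mem_iff.2 (mem_of_pow_mem hB D.ℓ_prime (fun a ha => mul_inv_mem_iff.1
    (fixed_coset _ D le_rfl hφ (ell_fix _ D le_rfl (mem_inv_commutator φ) ha)))
    (mul_inv_mem_iff.1 ht))

variable (hne : ∃ φ : commutator T →* ℂˣ, φ ≠ 1)

/-- The counting data on the linear characters of `W`. -/
noncomputable abbrev dataOf (W : Subgroup T) [W.Normal] (hWU : W ≤ commutator T)
    (hW : ∀ w ∈ W, D.σ w ∈ W) : OrbitData (Abelianization T) (Inv W) :=
  orbitData W D hWU hW (fun t ht => root_coset D hne.choose_spec t ht)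

theorem one_lt_disp (W : Subgroup T) [W.Normal] (hWU : W ≤ commutator T)
    (hW : ∀ w ∈ W, D.σ w ∈ W) {x : T} (hx : D.σ x * x⁻¹ ∉ commutator T) :
    1 < Nat.card (dataOf D hne W hWU hW).disp.range := by
  haveI : Nontrivial (dataOf D hne W hWU hW).disp.range := by
    refine (Subgroup.nontrivial_iff_ne_bot _).2 fun h => hx (mul_inv_mem_iff.2 ?_)
    have : (dataOf D hne W hWU hW).disp (Abelianization.of x) ∈ (⊥ : Subgroup _) :=
      h ▸ ⟨_, rfl⟩
    rw [Subgroup.mem_bot, OrbitData.disp_apply, div_eq_one] at this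
    exact this
  exact Finite.one_lt_card

include hne
variable {x : T} (hx : D.σ x * x⁻¹ ∉ commutator T)
include hx

/-- An element fixing one nontrivial linear character of `T'` fixes all. -/
theorem mem_kerU_of_fix {φ : commutator T →* ℂˣ} (hφ : φ ≠ 1) {t : T} (ht : cj t φ = φ) :
    t ∈ kerU T := by
  set O := dataOf D hne (commutator T) le_rfl (sigma_commutator D)
  have hfix : O.σ (Abelianization.of t) = Abelianization.of t :=
    mul_inv_mem_iff.1 (fixed_coset _ D le_rfl hφ ht)
  let P : Subgroup (Inv (commutator T)) :=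
    MonoidHom.eqLocus (O.ρ (Abelianization.of t)⁻¹).toMonoidHom (MonoidHom.id _)
  have hle : ∀ (f : MulAut (Inv (commutator T))),
      (∀ ψ, O.ρ (Abelianization.of t)⁻¹ (f ψ) = f (O.ρ (Abelianization.of t)⁻¹ ψ)) →
      P.map f.toMonoidHom = P := by
    intro f hf
    refine Subgroup.eq_of_le_of_card_ge ?_ ?_
    · rintro _ ⟨ψ, hψ, rfl⟩
      exact (hf ψ).trans (congrArg f hψ)
    · rw [← Nat.card_congr (P.equivMapOfInjective _ f.injective).toEquiv]
  have hPa : ∀ a, P.map (O.ρ a).toMonoidHom = P := fun a => hle _ fun ψ => by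
    rw [← MulAut.mul_apply, ← MulAut.mul_apply, ← map_mul, ← map_mul, mul_comm]
  have hPs : P.map O.s.toMonoidHom = P := hle _ fun ψ => by
    rw [O.compat, map_inv O.σ, hfix]
  have hmem : (⟨φ, mem_inv_commutator φ⟩ : Inv (commutator T)) ∈ P := by
    refine Subtype.ext ?_
    show cj t⁻¹⁻¹ φ = φ
    rw [inv_inv, ht]
  rcases O.eq_bot_or_top (abelianization_pow_fixed D)
    (one_lt_disp D hne _ le_rfl (sigma_commutator D) hx) P hPa hPs with hP | hP
  · rw [hP, Subgroup.mem_bot] at hmem
    exact absurd (congrArg Subtype.val hmem) hφ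
  · refine mem_kerU.2 fun ψ => ?_
    have h : (⟨ψ, mem_inv_commutator ψ⟩ : Inv (commutator T)) ∈ P := hP ▸ Subgroup.mem_top _
    have h' : cj t⁻¹⁻¹ ψ = ψ := congrArg Subtype.val h
    rwa [inv_inv] at h'

theorem stab_eq_kerU {φ : commutator T →* ℂˣ} (hφ : φ ≠ 1) : stab (G := T) (fn φ) = kerU T :=
  le_antisymm (fun _ ht => mem_kerU_of_fix D hne hx hφ (mem_stab_fn.1 ht))
    fun _ ht => mem_stab_fn.2 (mem_kerU.1 ht φ)

/-- `T'` is an `s`-group when nilpotent. -/
theorem exists_prime_pgroup [Group.IsNilpotent (commutator T)] :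
    ∃ s : ℕ, s.Prime ∧ IsPGroup s (commutator T) ∧ ∀ φ : commutator T →* ℂˣ, φ ^ s = 1 := by
  set O := dataOf D hne (commutator T) le_rfl (sigma_commutator D)
  obtain ⟨φ, hφ⟩ := id hne
  let φ₀ : Inv (commutator T) := ⟨φ, mem_inv_commutator φ⟩
  have hφ₀ : orderOf φ₀ ≠ 1 := fun h =>
    hφ (congrArg Subtype.val (orderOf_eq_one_iff.1 h))
  obtain ⟨s, hs, hso⟩ := Nat.exists_prime_and_dvd hφ₀
  haveI := Fact.mk hs
  obtain ⟨φ₁, hφ₁⟩ := exists_prime_orderOf_dvd_card' s (hso.trans (orderOf_dvd_natCard φ₀))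
  let P : Subgroup (Inv (commutator T)) := (powMonoidHom s).ker
  have hmap : ∀ f : MulAut (Inv (commutator T)), P.map f.toMonoidHom = P := by
    intro f
    refine Subgroup.eq_of_le_of_card_ge ?_ ?_
    · rintro _ ⟨ψ, hψ, rfl⟩
      show (f ψ) ^ s = 1
      rw [← map_pow, show ψ ^ s = 1 from hψ, map_one]
    · rw [← Nat.card_congr (P.equivMapOfInjective _ f.injective).toEquiv]
  rcases O.eq_bot_or_top (abelianization_pow_fixed D)
    (one_lt_disp D hne _ le_rfl (sigma_commutator D) hx) P (fun a => hmap _) (hmap _) with hP | hP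
  · exfalso
    have : φ₁ ∈ P := show φ₁ ^ s = 1 from hφ₁ ▸ pow_orderOf_eq_one φ₁
    rw [hP, Subgroup.mem_bot] at this
    rw [this, orderOf_one] at hφ₁
    exact hs.ne_one hφ₁.symm
  · have hexp : ∀ ψ : commutator T →* ℂˣ, ψ ^ s = 1 := fun ψ => by
      have h : (⟨ψ, mem_inv_commutator ψ⟩ : Inv (commutator T)) ∈ P := hP ▸ Subgroup.mem_top _
      exact congrArg Subtype.val (show (⟨ψ, mem_inv_commutator ψ⟩ : Inv (commutator T)) ^ s = 1 from h)
    exact ⟨s, hs, isPGroup_of_hom_exponent hexp, hexp⟩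

end CfsgLib.Char.NoDivide
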