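import Cfsg.Agent.Lib.Char.NoDivide.AbelianBasic
import Cfsg.Agent.Lib.Char.NoDivide.Ramified
import Cfsg.Agent.Lib.Char.TwoDegrees.Basic
import Cfsg.Agent.Lib.CharDeep.Glauberman.CoprimeDegree

/-!
# A single nonlinear degree when a moved element has order coprime to the derived subgroup
-/

set_option autoImplicit false

namespace CfsgLib.Char.NoDivide

open CfsgLib CfsgLib.Char CfsgLib.Char.LinearOverNormal
open scoped commutatorElement

universe u

variable {T : Type u} [Group T] [Fintype T]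

/-- Decomposition along a complement. -/
theorem exists_decomp {C : Subgroup T} (hd : Disjoint (commutator T) C)
    (hcard : Nat.card C = (commutator T).index) (t : T) :
    ∃ u ∈ commutator T, ∃ c ∈ C, t = u * c := by
  have hcompl : Subgroup.IsComplement' (commutator T) C :=
    Subgroup.isComplement'_of_card_mul_and_disjoint (by rw [hcard, Subgroup.card_mul_index]) hd
  obtain ⟨⟨w, c⟩, hwc⟩ := hcompl.2 t
  exact ⟨w, w.2, c, c.2, hwc.symm⟩

/-- The subgroup generated by `T'` and a part of the complement of an overgroup is the overgroup. -/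
theorem sup_inf_eq {C : Subgroup T} (hd : Disjoint (commutator T) C)
    (hcard : Nat.card C = (commutator T).index) {S : Subgroup T} (hS : commutator T ≤ S) :
    commutator T ⊔ (C ⊓ S) = S := by
  refine le_antisymm (sup_le hS inf_le_right) fun t ht => ?_
  obtain ⟨u, hu, c, hc, rfl⟩ := exists_decomp hd hcard t
  exact mul_mem (Subgroup.mem_sup_left hu) (Subgroup.mem_sup_right ⟨hc, by
    have h := mul_mem (inv_mem (hS hu)) ht
    rwa [inv_mul_cancel_left] at h⟩)

variable (D : Setting T) (hne : ∃ φ : commutator T →* ℂˣ, φ ≠ 1) {x : T}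
  (hx : D.σ x * x⁻¹ ∉ commutator T) {C : Subgroup T} (hd : Disjoint (commutator T) C)
  (hcard : Nat.card C = (commutator T).index)
include hne hx hd hcard

/-- A nonlinear character whose degree is the index of the kernel of the action. -/
theorem exists_degree_kerU : ∃ ψ : T → ℂ, Cfsg.IsIrrCharacter T ψ ∧ ψ 1 ≠ 1 ∧
    ψ 1 = ((kerU T).index : ℂ) := by
  classical
  haveI := Fintype.ofFinite (commutator T)
  obtain ⟨φ, hφ⟩ := id hne
  obtain ⟨E, hE, hEv⟩ := exists_ext_sup (U := commutator T) (C ⊓ kerU T) (hd.mono_right inf_le_left)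
    (isIrrCharacter_hom φ) fun p hp u => by
      have h : φ ⟨⁅p, (u : T)⁆, commutator_mem_normal p u⟩ = 1 :=
        Abelianization.commutator_subset_ker φ (kerU_commutator hp.2 u)
      simp [h]
  have hS := sup_inf_eq hd hcard (commutator_le_kerU (T := T))
  obtain ⟨ψ, hψ, ho, hdeg⟩ := exists_of_extension (isIrrCharacter_hom φ) (commutator T ⊔ (C ⊓ kerU T))
    le_sup_left (fun g => by rw [hS, ← stab_eq_kerU D hne hx hφ]; rfl) hE fun u => by
      have := hEv u 1 (one_mem _)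
      rw [← this]
      exact congrArg E (Subtype.ext (mul_one _).symm)
  refine ⟨ψ, hψ, over_nonlinear _ le_rfl hφ hψ ho, ?_⟩
  rw [hdeg, hS]
  simp

/-- Elements of the complement of `s`-power order act trivially. -/
theorem mem_kerU_of_pgroup {s : ℕ} (hs : s.Prime) (hexp : ∀ φ : commutator T →* ℂˣ, φ ^ s = 1)
    {p : T} (hp : ∃ i, p ^ s ^ i = 1) : p ∈ kerU T := by
  classical
  haveI := Fact.mk hs
  obtain ⟨i, hi⟩ := hp
  have hP : IsPGroup s (Subgroup.zpowers p) := by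
    intro q
    obtain ⟨q, hq⟩ := q
    obtain ⟨k, rfl⟩ := Subgroup.mem_zpowers_iff.1 hq
    refine ⟨i, Subtype.ext ?_⟩
    show (p ^ k) ^ s ^ i = 1
    rw [← zpow_natCast, ← zpow_mul, mul_comm, zpow_mul, zpow_natCast, hi, one_zpow]
  letI : MulAction (Subgroup.zpowers p) (Inv (commutator T)) :=
    MulAction.compHom (Inv (commutator T)) ((actHom (commutator T)).comp (Subgroup.zpowers p).subtype)
  obtain ⟨φ, hφ⟩ := id hne
  have hdvd : s ∣ Nat.card (Inv (commutator T)) := by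
    let φ₀ : Inv (commutator T) := ⟨φ, mem_inv_commutator φ⟩
    have h1 : orderOf φ₀ = s :=
      orderOf_eq_prime (Subtype.ext (hexp φ)) fun h => hφ (congrArg Subtype.val h)
    exact h1 ▸ orderOf_dvd_natCard φ₀
  obtain ⟨ψ, hψ, hψ1⟩ := hP.exists_fixed_point_of_prime_dvd_card_of_fixed_point
    (Inv (commutator T)) hdvd (a := (1 : Inv (commutator T)))
    (fun g => map_one (actHom (commutator T) (g : T)))
  have h := congrArg Subtype.val (hψ ⟨p, Subgroup.mem_zpowers p⟩)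
  change cj p⁻¹ ψ.1 = ψ.1 at h
  exact inv_mem_iff.1 (mem_kerU_of_fix D hne hx (fun e => hψ1 (Subtype.ext e.symm)) h)

omit hne hx in
/-- An index above `T'` is prime to `s` if the `s`-elements of the complement lie below. -/
theorem not_dvd_relIndex {s : ℕ} (hs : s.Prime) {N S : Subgroup T} (hN : commutator T ≤ N)
    (hS : N ≤ S) (hp : ∀ p ∈ C, p ∈ S → (∃ i, p ^ s ^ i = 1) → p ∈ N) : ¬ s ∣ N.relIndex S := by
  haveI := Fact.mk hs
  haveI := normal_of_commutator_le hN
  intro hdvd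
  obtain ⟨q, hq⟩ := exists_prime_orderOf_dvd_card' (G := S ⧸ N.subgroupOf S) s hdvd
  obtain ⟨⟨t, ht⟩, rfl⟩ := QuotientGroup.mk_surjective q
  obtain ⟨u, hu, c, hc, rfl⟩ := exists_decomp hd hcard t
  have hcS : c ∈ S := by
    have h := mul_mem (inv_mem (hS (hN hu))) ht
    rwa [inv_mul_cancel_left] at h
  have he : ((⟨u * c, ht⟩ : S) : S ⧸ N.subgroupOf S) = ((⟨c, hcS⟩ : S) : S ⧸ N.subgroupOf S) := by
    rw [show (⟨u * c, ht⟩ : S) = ⟨u, hS (hN hu)⟩ * ⟨c, hcS⟩ from rfl, QuotientGroup.mk_mul,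
      (QuotientGroup.eq_one_iff _).2 (show (⟨u, hS (hN hu)⟩ : S) ∈ N.subgroupOf S from hN hu), one_mul]
  rw [he] at hq
  obtain ⟨i, m, hm, hn⟩ := Nat.exists_eq_pow_mul_and_not_dvd (orderOf_pos c).ne' s hs.ne_one
  have hmem : c ^ m ∈ N := hp _ (pow_mem hc m) (pow_mem hcS m) ⟨i, by
    rw [← pow_mul, mul_comm, ← hn, pow_orderOf_eq_one]⟩
  refine hm (hq ▸ orderOf_dvd_of_pow_eq_one ?_)
  rw [← QuotientGroup.mk_pow, QuotientGroup.eq_one_iff]
  exact hmem

theorem not_dvd_index_kerU {s : ℕ} (hs : s.Prime) (hexp : ∀ φ : commutator T →* ℂˣ, φ ^ s = 1) :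
    ¬ s ∣ (kerU T).index := by
  rw [← Subgroup.relIndex_top_right]
  exact not_dvd_relIndex hd hcard hs commutator_le_kerU le_top fun p _ _ hp =>
    mem_kerU_of_pgroup D hne hx hd hcard hs hexp hp

/-- The abelian case of the derived subgroup. -/
theorem degree_eq_of_comm (hcomm : ∀ a ∈ commutator T, ∀ b ∈ commutator T, a * b = b * a)
    {ψ : T → ℂ} (hψ : Cfsg.IsIrrCharacter T ψ) (hnl : ψ 1 ≠ 1) :
    ψ 1 = ((kerU T).index : ℂ) := by
  classical
  haveI := Fintype.ofFinite (commutator T)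
  haveI := normal_of_commutator_le (commutator_le_kerU (T := T))
  have hC : ∀ a ∈ C, ∀ b ∈ C, a * b = b * a := fun a ha b hb => by
    have h1 : ⁅a, b⁆ ∈ commutator T ⊓ C := ⟨Subgroup.commutator_mem_commutator (Subgroup.mem_top a)
      (Subgroup.mem_top b), by
        rw [commutatorElement_def]
        exact C.mul_mem (C.mul_mem (C.mul_mem ha hb) (C.inv_mem ha)) (C.inv_mem hb)⟩
    rw [hd.eq_bot, Subgroup.mem_bot, commutatorElement_eq_one_iff_mul_comm] at h1
    exact h1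
  have hpu : ∀ c ∈ C, c ∈ kerU T → ∀ u ∈ commutator T, c * u = u * c := fun c _ hcK u hu => by
    have h := kerU_commutator hcK ⟨u, hu⟩
    have hb : commutator (commutator T) = ⊥ := by
      refine eq_bot_iff.2 ((commutator_def _).le.trans (Subgroup.commutator_le.2 ?_))
      intro a _ b _
      rw [Subgroup.mem_bot, commutatorElement_eq_one_iff_mul_comm]
      exact Subtype.ext (hcomm _ a.2 _ b.2)
    rw [hb, Subgroup.mem_bot] at h
    exact commutatorElement_eq_one_iff_mul_comm.1 (congrArg Subtype.val h)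
  have hab : ∀ a ∈ kerU T, ∀ b ∈ kerU T, a * b = b * a := by
    intro a ha b hb
    rw [← sup_inf_eq hd hcard (commutator_le_kerU (T := T))] at ha hb
    obtain ⟨u, hu, p, hp, rfl⟩ := Subgroup.mem_sup_of_normal_left.1 ha
    obtain ⟨v, hv, q, hq, rfl⟩ := Subgroup.mem_sup_of_normal_left.1 hb
    calc u * p * (v * q) = u * (p * v) * q := by group
      _ = u * (v * p) * q := by rw [hpu p hp.1 hp.2 v hv]
      _ = (u * v) * (p * q) := by group
      _ = (v * u) * (q * p) := by rw [hcomm u hu v hv, hC p hp.1 q hq.1]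
      _ = v * (u * q) * p := by group
      _ = v * (q * u) * p := by rw [hpu q hq.1 hq.2 u hu]
      _ = v * q * (u * p) := by group
  obtain ⟨k, hk, hkd⟩ := TwoDegrees.exists_degree_dvd_index hab hψ
  obtain ⟨θ, hθ, hθ1, ho⟩ := exists_under hψ hnl
  have hlin : θ 1 = 1 :=
    apply_one_eq_one_of_comm (fun a b => Subtype.ext (hcomm _ a.2 _ b.2)) hθ
  obtain ⟨φ, rfl⟩ := exists_hom_of_apply_one_eq_one (IsIrrCharacter.isCharacter hθ) hlin
  have hφ : φ ≠ 1 := fun e => hθ1 (by rw [e]; simp)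
  have h := index_stab_mul_dvd hψ hθ ho hk (k := 1) (by simp)
  rw [mul_one, show stab (G := T) (fun u => (φ u : ℂ)) = kerU T from stab_eq_kerU D hne hx hφ] at h
  rw [hk, Nat.dvd_antisymm hkd h]

/-- The derived subgroup is abelian. -/
theorem commutator_comm [Group.IsNilpotent (commutator T)]
    (hanti : ∀ χ ψ : T → ℂ, Cfsg.IsIrrCharacter T χ → Cfsg.IsIrrCharacter T ψ → χ 1 ≠ 1 → ψ 1 ≠ 1 →
      ∀ a b : ℕ, χ 1 = a → ψ 1 = b → a ∣ b → a = b) :
    ∀ a ∈ commutator T, ∀ b ∈ commutator T, a * b = b * a := by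
  classical
  haveI := Fintype.ofFinite (commutator T)
  by_contra hnc
  obtain ⟨s, hs, hsU, hexp⟩ := exists_prime_pgroup D hne hx
  haveI := Fact.mk hs
  set U := commutator T with hUdef
  set W : Subgroup T := ⁅U, U⁆ with hWdef
  have hWU : W ≤ U := Subgroup.commutator_le_self U
  have hWmap : (commutator U).map U.subtype = W := Subgroup.map_subtype_commutator U
  have hW : ∀ w ∈ W, D.σ w ∈ W := by
    intro w hw
    have h := Subgroup.map_commutator U U D.σ.toMonoidHom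
    have hU : U.map D.σ.toMonoidHom ≤ U := by
      rintro _ ⟨u, hu, rfl⟩
      exact sigma_commutator D u hu
    exact Subgroup.commutator_mono hU hU (h ▸ Subgroup.mem_map_of_mem D.σ.toMonoidHom hw)
  have hmemW : ∀ z : commutator U, ((z : U) : T) ∈ W := fun z =>
    hWmap ▸ Subgroup.mem_map_of_mem U.subtype z.2
  let π : commutator U →* W :=
    MonoidHom.mk' (fun z => ⟨((z : U) : T), hmemW z⟩) fun a b => rfl
  have hWbot : W ≠ ⊥ := by
    intro h
    refine hnc fun a ha b hb => ?_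
    have : ⁅a, b⁆ ∈ W := Subgroup.commutator_mem_commutator ha hb
    rw [h, Subgroup.mem_bot, commutatorElement_eq_one_iff_mul_comm] at this
    exact this
  -- nontrivial invariant characters of `W`
  have hstrict : ¬ W ≤ ⁅W, U⁆ := by
    intro h
    have h2 : (W.subgroupOf U) ≤ ⁅W.subgroupOf U, (⊤ : Subgroup U)⁆ := by
      intro w hw
      have h3 := h (Subgroup.mem_subgroupOf.1 hw)
      have e : ⁅W, U⁆ = (⁅W.subgroupOf U, (⊤ : Subgroup U)⁆).map U.subtype := by
        rw [Subgroup.map_commutator, Subgroup.map_subgroupOf_eq_of_le hWU, ← MonoidHom.range_eq_map,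
          Subgroup.range_subtype]
      rw [e] at h3
      obtain ⟨w', hw', he⟩ := h3
      exact (Subtype.ext he : w' = w) ▸ hw'
    refine hWbot ?_
    rw [← Subgroup.map_subgroupOf_eq_of_le hWU, eq_bot_of_le_commutator _ h2, Subgroup.map_bot]
  have hexInv : ∃ l : Inv W, l ≠ 1 := by
    set H : Subgroup W := (⁅W, U⁆).subgroupOf W
    haveI : H.Normal := inferInstance
    obtain ⟨w, hw, hwH⟩ := SetLike.not_le_iff_exists.1 hstrict
    have hcomH : commutator W ≤ H := by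
      rw [commutator_def, Subgroup.commutator_le]
      intro a _ b _
      exact Subgroup.mem_subgroupOf.2 (Subgroup.commutator_mem_commutator a.2 (hWU b.2))
    letI : CommGroup (W ⧸ H) :=
      { (inferInstance : Group (W ⧸ H)) with
        mul_comm := fun a b => by
          obtain ⟨a, rfl⟩ := QuotientGroup.mk_surjective a
          obtain ⟨b, rfl⟩ := QuotientGroup.mk_surjective b
          rw [← QuotientGroup.mk_mul, ← QuotientGroup.mk_mul, QuotientGroup.eq]
          have h : ⁅b⁻¹, a⁻¹⁆ ∈ H :=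
            hcomH (Subgroup.commutator_mem_commutator (Subgroup.mem_top _) (Subgroup.mem_top _))
          rwa [show (a * b)⁻¹ * (b * a) = ⁅b⁻¹, a⁻¹⁆ by simp only [commutatorElement_def]; group] }
    have : NeZero (Monoid.exponent (W ⧸ H) : ℂ) := ⟨by exact_mod_cast Monoid.exponent_ne_zero_of_finite⟩
    obtain ⟨ψ, hψ⟩ := CommGroup.exists_apply_ne_one_of_hasEnoughRootsOfUnity (W ⧸ H) ℂ
      (a := ((⟨w, hw⟩ : W) : W ⧸ H)) (fun h => hwH (Subgroup.mem_subgroupOf.1 ((QuotientGroup.eq_one_iff (⟨w, hw⟩ : W)).1 h)))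
    refine ⟨⟨ψ.comp (QuotientGroup.mk' H), fun u hu => MonoidHom.ext fun n => ?_⟩, fun h => hψ ?_⟩
    · show ψ (QuotientGroup.mk' H (MulAut.conjNormal u n)) = ψ (QuotientGroup.mk' H n)
      congr 1
      rw [QuotientGroup.mk'_eq_mk']
      refine ⟨((MulAut.conjNormal u n)⁻¹ * n), Subgroup.mem_subgroupOf.2 ?_, mul_inv_cancel_left _ _⟩
      rw [Subgroup.coe_mul, Subgroup.coe_inv, MulAut.conjNormal_apply,
        show (u * (n : T) * u⁻¹)⁻¹ * n = ⁅u, (n : T)⁻¹⁆ by simp only [commutatorElement_def]; group,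
        Subgroup.commutator_comm]
      exact Subgroup.commutator_mem_commutator hu (inv_mem n.2)
    · have := DFunLike.congr_fun (congrArg Subtype.val h) ⟨w, hw⟩
      exact this
  -- the two character groups have the same order
  set OU := dataOf D hne U le_rfl (sigma_commutator D)
  set OW := dataOf D hne W hWU hW
  have hQ := one_lt_disp D hne U le_rfl (sigma_commutator D) hx
  have hpU : IsPGroup s (Inv U) := fun φ => ⟨1, Subtype.ext (by rw [pow_one]; exact hexp φ.1)⟩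
  have hpW : IsPGroup s (Inv W) := fun φ => by
    obtain ⟨a, ha⟩ := hsU.exists_card_eq
    refine ⟨a, Subtype.ext (MonoidHom.ext fun w => ?_)⟩
    have hw : w ^ s ^ a = 1 := by
      refine Subtype.ext ?_
      show (w : T) ^ s ^ a = 1
      exact congrArg Subtype.val
        (show (⟨w, hWU w.2⟩ : U) ^ s ^ a = 1 from ha ▸ pow_card_eq_one')
    show φ.1 w ^ s ^ a = 1
    rw [← map_pow, hw, map_one]
  haveI : Nontrivial (Inv U) := by
    obtain ⟨φ, hφ⟩ := id hne
    exact nontrivial_of_ne (⟨φ, mem_inv_commutator φ⟩ : Inv U) 1 fun e => hφ (congrArg Subtype.val e)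
  haveI : Nontrivial (Inv W) := nontrivial_of_ne _ _ hexInv.choose_spec
  have hsame : Nat.card (Inv W) = Nat.card (Inv U) := by
    obtain ⟨a, ha⟩ := hpU.exists_card_eq
    obtain ⟨a', ha'⟩ := hpW.exists_card_eq
    obtain ⟨b, hb, hb'⟩ := (Nat.dvd_prime_pow hs).1 (ha ▸ Subgroup.card_subgroup_dvd_card (OU.loc 1))
    obtain ⟨c, hc, hc'⟩ := (Nat.dvd_prime_pow hs).1 (ha' ▸ Subgroup.card_subgroup_dvd_card (OW.loc 1))
    have h1 := OU.card_eq_top (abelianization_pow_fixed D)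
    have h2 := OW.card_eq_top (abelianization_pow_fixed D)
    rw [ha, hb'] at h1
    rw [ha', hc'] at h2
    have ha0 : 0 < a := Nat.pos_of_ne_zero fun e => by
      rw [e, pow_zero] at ha
      exact absurd ha (Finite.one_lt_card (α := Inv U)).ne'
    have ha0' : 0 < a' := Nat.pos_of_ne_zero fun e => by
      rw [e, pow_zero] at ha'
      exact absurd ha' (Finite.one_lt_card (α := Inv W)).ne'
    rw [ha, ha']
    exact eq_of_count hs hQ hc hb ha0' ha0 h2 h1
  -- a character of `W` with large radical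
  haveI := hom_finite U
  obtain ⟨v, hvU⟩ : ∃ v : U, v ∉ commutator U := by
    by_contra hall
    push Not at hall
    refine hWbot (hWdef ▸ ?_)
    haveI : Subsingleton U := by
      by_contra hns
      haveI := not_subsingleton_iff_nontrivial.1 hns
      exact (Group.IsSolvable.commutator_lt_top_of_nontrivial U).ne (eq_top_iff.2 fun v _ => hall v)
    rw [Subgroup.eq_bot_of_subsingleton U]
    exact Subgroup.commutator_bot_left ⊥
  let κ : Inv W →* (U →* ℂˣ) :=
    MonoidHom.mk' (fun l => MonoidHom.mk'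
      (fun a : U => l.1 ⟨⁅(v : T), (a : T)⁆, Subgroup.commutator_mem_commutator v.2 a.2⟩)
      fun a b => by
        have e : (⟨⁅(v : T), ((a * b : U) : T)⁆, Subgroup.commutator_mem_commutator v.2 (a * b).2⟩ : W) =
            ⟨⁅(v : T), (a : T)⁆, Subgroup.commutator_mem_commutator v.2 a.2⟩ *
              MulAut.conjNormal (a : T)
                ⟨⁅(v : T), (b : T)⁆, Subgroup.commutator_mem_commutator v.2 b.2⟩ :=
          Subtype.ext (by simp only [Subgroup.coe_mul, MulAut.conjNormal_apply, commutatorElement_def]; group)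
        rw [e, map_mul]
        exact congrArg _ (DFunLike.congr_fun (l.2 a a.2) _))
      fun l l' => rfl
  obtain ⟨l, hl1, hl⟩ : ∃ l : Inv W, l ≠ 1 ∧ κ l = 1 := by
    by_contra hcon
    push Not at hcon
    have hinj : Function.Injective κ := (injective_iff_map_eq_one κ).2 fun l hl =>
      by_contra fun h => hcon l h hl
    have hcardU : Nat.card (U →* ℂˣ) = Nat.card (Inv U) :=
      (Nat.card_congr (Equiv.subtypeUnivEquiv (p := fun φ => φ ∈ Inv U) mem_inv_commutator)).symm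
    have hbij := (Nat.bijective_iff_injective_and_card κ).2 ⟨hinj, hsame.trans hcardU.symm⟩
    have : NeZero (Monoid.exponent (Abelianization U) : ℂ) :=
      ⟨by exact_mod_cast Monoid.exponent_ne_zero_of_finite⟩
    obtain ⟨φ, hφ⟩ := CommGroup.exists_apply_ne_one_of_hasEnoughRootsOfUnity (Abelianization U) ℂ
      (a := Abelianization.of v) (fun h => hvU ((QuotientGroup.eq_one_iff v).1 h))
    obtain ⟨l, hl⟩ := hbij.2 (φ.comp Abelianization.of)
    have h := DFunLike.congr_fun hl v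
    refine hφ (h.symm.trans ?_)
    show l.1 ⟨⁅(v : T), (v : T)⁆, _⟩ = 1
    rw [← map_one l.1]
    exact congrArg _ (Subtype.ext (by simp [commutatorElement_def]))
  -- the character of the derived subgroup of `U`
  let L : commutator U →* ℂˣ := l.1.comp π
  have hπ : Function.Surjective π := by
    intro w
    obtain ⟨z, hz, he⟩ := (hWmap.symm ▸ w.2 : (w : T) ∈ (commutator U).map U.subtype)
    exact ⟨⟨z, hz⟩, Subtype.ext he⟩
  have hL1 : L ≠ 1 := fun h => hl1 (Subtype.ext (MonoidHom.ext fun w => by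
    obtain ⟨z, rfl⟩ := hπ w
    exact DFunLike.congr_fun h z))
  have hinv : ∀ (g : U) (z : commutator U),
      L ⟨g * z * g⁻¹, Subgroup.Normal.conj_mem inferInstance (z : U) z.2 g⟩ = L z := fun g z => by
    refine Eq.trans (congrArg l.1 (Subtype.ext ?_)) (DFunLike.congr_fun (l.2 g g.2) (π z))
    show ((g * z * g⁻¹ : U) : T) = _
    simp [π]
  have hrad : ∃ v' ∈ rad L hinv, v' ∉ commutator U := by
    refine ⟨v, fun b => ?_, hvU⟩
    exact (congrArg l.1 (Subtype.ext (by simp [π, commutatorElement_def]))).trans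
      (DFunLike.congr_fun hl b)
  set S := stab (G := T) (fn l.1)
  have hUS : U ≤ S := fun u hu => mem_stab_fn.2 (l.2 u hu)
  have hstab : ∀ η : U → ℂ, OverL L η → stab (G := T) η ≤ S := by
    intro η hη t ht
    refine mem_stab_fn.2 (MonoidHom.ext fun w => ?_)
    obtain ⟨z, rfl⟩ := hπ w
    have hz' : (MulAut.conjNormal t (z : U) : U) ∈ commutator U :=
      gamma_mem_commutator (MulAut.conjNormal t) z.2
    have h1 := congrFun ht (z : U)
    rw [conjG_eq_comp, Function.comp_apply] at h1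
    rw [show ((MulAut.conjNormal t : MulAut U) (z : U)) = ((⟨_, hz'⟩ : commutator U) : U) from rfl,
      hη.2, hη.2] at h1
    refine Units.ext (Eq.trans ?_ (mul_left_cancel₀ (IsIrrCharacter.apply_one_ne_zero hη.1) h1))
    show ((l.1 (MulAut.conjNormal t (π z))) : ℂ) = _
    exact congrArg (fun w => ((l.1 w : ℂˣ) : ℂ)) (Subtype.ext (by simp [π]))
  have hsd : ∀ η : U → ℂ, OverL L η → ∀ d : ℕ, η 1 = d → s ∣ d := by
    intro η hη d hdd
    obtain ⟨m, hm, hmd⟩ := IsIrrCharacter.apply_one_dvd_card hη.1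
    obtain ⟨a, ha⟩ := hsU.exists_card_eq
    rw [hdd, Nat.cast_inj] at hm
    rw [← hm, ha] at hmd
    obtain ⟨j, -, rfl⟩ := (Nat.dvd_prime_pow hs).1 hmd
    refine dvd_pow_self s fun h0 => hη.degree_ne_one L hinv hL1 ?_
    rw [hdd, h0, pow_zero, Nat.cast_one]
  have hover : ∀ η : U → ℂ, OverL L η → ∀ d : ℕ, η 1 = d → ∃ ψ : T → ℂ, ∃ k : ℕ,
      Cfsg.IsIrrCharacter T ψ ∧ ψ 1 = k ∧ ψ 1 ≠ 1 ∧ (stab (G := T) η).index * d ∣ k := by
    intro η hη d hdd
    obtain ⟨ψ, hψ, ho⟩ := exists_over (G := T) hη.1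
    obtain ⟨k, -, hk⟩ := IsIrrCharacter.apply_one_eq hψ
    have h := index_stab_mul_dvd hψ hη.1 ho hk hdd
    refine ⟨ψ, k, hψ, hk, fun h1 => ?_, h⟩
    rw [hk, Nat.cast_eq_one] at h1
    exact hs.not_dvd_one (h1 ▸ (hsd η hη d hdd).trans (dvd_of_mul_left_dvd h))
  by_cases hSK : S ≤ kerU T
  · obtain ⟨η, hη⟩ := exists_overL L hinv
    obtain ⟨d, -, hdd⟩ := IsIrrCharacter.apply_one_eq hη.1
    obtain ⟨ψ, k, hψ, hk, hnl, hdvd⟩ := hover η hη d hdd
    obtain ⟨ψ', hψ', hnl', he⟩ := exists_degree_kerU D hne hx hd hcard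
    have h1 : (kerU T).index ∣ k :=
      (Subgroup.index_dvd_of_le ((hstab η hη).trans hSK)).trans (dvd_of_mul_right_dvd hdvd)
    have h2 := hanti ψ' ψ hψ' hψ hnl' hnl _ _ he hk h1
    exact not_dvd_index_kerU D hne hx hd hcard hs hexp
      (h2 ▸ (hsd η hη d hdd).trans (dvd_of_mul_left_dvd hdvd))
  obtain ⟨c', hc'S, hc'K⟩ := SetLike.not_le_iff_exists.1 hSK
  obtain ⟨u₀, hu₀, c, hcC, rfl⟩ := exists_decomp hd hcard c'
  have hcS : c ∈ S := by
    have h := mul_mem (inv_mem (hUS hu₀)) hc'S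
    rwa [inv_mul_cancel_left] at h
  have hcK : c ∉ kerU T := fun h => hc'K (mul_mem (commutator_le_kerU hu₀) h)
  have hC : ∀ a ∈ C, ∀ b ∈ C, a * b = b * a := fun a ha b hb => by
    have h1 : ⁅a, b⁆ ∈ commutator T ⊓ C := ⟨Subgroup.commutator_mem_commutator (Subgroup.mem_top a)
      (Subgroup.mem_top b), by
        rw [commutatorElement_def]
        exact C.mul_mem (C.mul_mem (C.mul_mem ha hb) (C.inv_mem ha)) (C.inv_mem hb)⟩
    rw [hd.eq_bot, Subgroup.mem_bot, commutatorElement_eq_one_iff_mul_comm] at h1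
    exact h1
  let γ : U ≃* U := MulAut.conjNormal c
  have hconjL : ∀ t ∈ S, ∀ z w : commutator U,
      (MulAut.conjNormal t : MulAut U) (z : U) = (w : U) → L w = L z := fun t ht z w h => by
    refine Eq.trans (congrArg l.1 (Subtype.ext ?_)) (DFunLike.congr_fun (mem_stab_fn.1 ht) (π z))
    show ((w : U) : T) = _
    rw [← h]
    simp [π]
  have hfpf : ∀ φ : U →* ℂˣ, φ.comp γ.toMonoidHom = φ → φ = 1 := fun φ h =>
    by_contra fun hφ => hcK (mem_kerU_of_fix D hne hx hφ h)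
  obtain ⟨η₀, η₁, hη₀, hfix₀, hη₁, hmov₁⟩ :=
    exists_fixed_and_moved L hinv γ (hconjL c hcS) hfpf hrad
  -- the stabiliser of the fixed one is all of `S`
  have hS0 : ∀ g, g ∈ S ↔ conjG η₀ g = η₀ := by
    refine fun g => ⟨fun hg => ?_, fun hg => hstab η₀ hη₀ hg⟩
    obtain ⟨w, hw, p, hp, rfl⟩ := exists_decomp hd hcard g
    have hpS : p ∈ S := by
      have h := mul_mem (inv_mem (hUS hw)) hg
      rwa [inv_mul_cancel_left] at h
    have h1 : conjG η₀ w = η₀ := conjG_of_mem (IsIrrCharacter.isClassFunction hη₀.1) hw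
    rw [← conjG_mul, h1, conjG_eq_comp]
    refine (fixed_unique L hinv γ (hconjL c hcS) hfpf hη₀
      (hη₀.comp L (MulAut.conjNormal p) (hconjL p hpS)) hfix₀ ?_).symm
    funext a
    have e : (MulAut.conjNormal p : MulAut U) (γ a) = γ (MulAut.conjNormal p a) := by
      refine Subtype.ext ?_
      simp only [γ, MulAut.conjNormal_apply]
      calc p * (c * (a : T) * c⁻¹) * p⁻¹ = (p * c) * a * (p * c)⁻¹ := by group
        _ = (c * p) * a * (c * p)⁻¹ := by rw [hC p hp c hcC]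
        _ = c * (p * (a : T) * p⁻¹) * c⁻¹ := by group
    show η₀ ((MulAut.conjNormal p : MulAut U) (γ a)) = η₀ ((MulAut.conjNormal p : MulAut U) a)
    rw [e]
    exact congrFun hfix₀ _
  -- `s`-elements of the complement inside `S`
  let P : Subgroup T :=
    { carrier := {p | p ∈ C ∧ p ∈ S ∧ ∃ i, p ^ s ^ i = 1}
      one_mem' := ⟨one_mem _, one_mem _, 0, by simp⟩
      mul_mem' := fun {a b} ⟨ha, ha', i, hi⟩ ⟨hb, hb', j, hj⟩ =>
        ⟨mul_mem ha hb, mul_mem ha' hb', i + j, by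
          rw [(show Commute a b from hC a ha b hb).mul_pow, pow_add, pow_mul, hi, one_pow, one_mul,
            mul_comm, pow_mul, hj, one_pow]⟩
      inv_mem' := fun {a} ⟨ha, ha', i, hi⟩ =>
        ⟨inv_mem ha, inv_mem ha', i, by rw [inv_pow, hi, inv_one]⟩ }
  have hPC : P ≤ C := fun p hp => hp.1
  obtain ⟨d, -, hdd⟩ := IsIrrCharacter.apply_one_eq hη₀.1
  have hk0 : ∀ p ∈ P, ∀ u : U, η₀ ⟨⁅p, (u : T)⁆, commutator_mem_normal p u⟩ = η₀ 1 := by
    rintro p ⟨hpC, hpS, hpi⟩ u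
    have hpK : p ∈ kerU T := mem_kerU_of_pgroup D hne hx hd hcard hs hexp hpi
    have hmem : ∀ u : U, (⟨⁅p, (u : T)⁆, commutator_mem_normal p u⟩ : U) ∈ commutator U :=
      kerU_commutator hpK
    let f : U → ℂˣ := fun u => L ⟨_, hmem u⟩
    have hf : ∀ a b, f (a * b) = f a * f b := fun a b => by
      have e : (⟨_, hmem (a * b)⟩ : commutator U) = ⟨_, hmem a⟩ *
          ⟨a * (⟨⁅p, (b : T)⁆, commutator_mem_normal p b⟩ : U) * a⁻¹,
            Subgroup.Normal.conj_mem inferInstance _ (hmem b) a⟩ := by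
        refine Subtype.ext (Subtype.ext ?_)
        simp only [Subgroup.coe_mul, Subgroup.coe_inv, commutatorElement_def]
        group
      show L _ = L _ * L _
      rw [e, map_mul, hinv a ⟨_, hmem b⟩]
    have hf1 : MonoidHom.mk' f hf = 1 := hfpf _ (MonoidHom.ext fun a => by
      refine hconjL c hcS ⟨_, hmem a⟩ ⟨_, hmem (γ a)⟩ (Subtype.ext ?_)
      simp only [γ, MulAut.conjNormal_apply, commutatorElement_def]
      calc c * (p * (a : T) * p⁻¹ * (a : T)⁻¹) * c⁻¹
          = (c * p) * a * (c * p)⁻¹ * (c * (a : T)⁻¹ * c⁻¹) := by group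
        _ = (p * c) * a * (p * c)⁻¹ * (c * (a : T)⁻¹ * c⁻¹) := by rw [hC p hpC c hcC]
        _ = p * (c * (a : T) * c⁻¹) * p⁻¹ * (c * (a : T) * c⁻¹)⁻¹ := by group)
    have h : L ⟨_, hmem u⟩ = 1 := DFunLike.congr_fun hf1 u
    show η₀ ((⟨_, hmem u⟩ : commutator U) : U) = _
    rw [hη₀.2, h, Units.val_one, mul_one]
  obtain ⟨E₁, hE₁, hE₁v⟩ := exists_ext_sup P (hd.mono_right hPC) hη₀.1 hk0
  let N₁ : Subgroup T := U ⊔ P
  have hUN : U ≤ N₁ := le_sup_left
  have hN₁S : N₁ ≤ S := sup_le hUS fun p hp => hp.2.1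
  haveI : N₁.Normal := normal_of_commutator_le hUN
  have hN₁p : IsPGroup s N₁ := hsU.to_sup_of_normal_left fun p => by
    obtain ⟨i, hi⟩ := p.2.2.2
    exact ⟨i, Subtype.ext hi⟩
  have hndvd : ¬ s ∣ N₁.relIndex S := not_dvd_relIndex hd hcard hs hUN hN₁S fun p h1 h2 h3 =>
    Subgroup.mem_sup_right (show p ∈ P from ⟨h1, h2, h3⟩)
  haveI := Fintype.ofFinite S
  let K := N₁.subgroupOf S
  let eK : K ≃* N₁ := Subgroup.subgroupOfEquivOfLe hN₁S
  obtain ⟨a₁, ha₁⟩ := hN₁p.exists_card_eq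
  have hcop : (Nat.card K).Coprime K.index := by
    rw [Nat.card_congr eK.toEquiv, ha₁]
    exact Nat.Coprime.pow_left _ (hs.coprime_iff_not_dvd.2 hndvd)
  obtain ⟨E, hE⟩ := CharDeep.Glauberman.exists_irr_extension hcop
    (⟨E₁ ∘ eK, IsIrrCharacter.comp_equiv hE₁ eK⟩ : Cfsg.IrrCharacter K) fun g n => by
    obtain ⟨w, hw, q, hq, hgq⟩ := exists_decomp hd hcard (g : T)
    have hqS : q ∈ S := by
      have h := mul_mem (inv_mem (hUS hw)) g.2
      rw [hgq, inv_mul_cancel_left] at h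
      exact h
    obtain ⟨z, hz, p, hp, hzp⟩ := Subgroup.mem_sup_of_normal_left.1 (eK n).2
    have hqz : q * z * q⁻¹ ∈ U := Subgroup.Normal.conj_mem inferInstance z hz q
    have e1 : E₁ (eK n) = η₀ ⟨z, hz⟩ := by
      rw [← hE₁v ⟨z, hz⟩ p hp]
      exact congrArg E₁ (Subtype.ext hzp.symm)
    have hx' : (q * z * q⁻¹) * p ∈ N₁ := mul_mem (hUN hqz) (Subgroup.mem_sup_right hp)
    have e2 : E₁ ⟨_, hx'⟩ = η₀ ⟨z, hz⟩ := by
      rw [show E₁ ⟨_, hx'⟩ = η₀ ⟨q * z * q⁻¹, hqz⟩ from hE₁v ⟨_, hqz⟩ p hp]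
      exact congrFun ((hS0 q).1 hqS) ⟨z, hz⟩
    show E₁ (eK _) = E₁ (eK n)
    rw [e1, ← e2, ← IsIrrCharacter.isClassFunction hE₁ (⟨_, hx'⟩ : N₁) ⟨w, hUN hw⟩]
    refine congrArg E₁ (Subtype.ext ?_)
    show (g : T) * ((eK n : N₁) : T) * (g : T)⁻¹ = w * ((q * z * q⁻¹) * p) * w⁻¹
    rw [← hzp, hgq]
    calc w * q * (z * p) * (w * q)⁻¹ = w * ((q * z * q⁻¹) * (q * p) * q⁻¹) * w⁻¹ := by group
      _ = w * ((q * z * q⁻¹) * (p * q) * q⁻¹) * w⁻¹ := by rw [hC q hq p (hPC hp)]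
      _ = w * ((q * z * q⁻¹) * p) * w⁻¹ := by group
  obtain ⟨ψ₀, hψ₀, ho₀, hdeg₀⟩ := exists_of_extension hη₀.1 S hUS hS0 E.2 fun u => by
    have h := hE ⟨⟨u, hUS u.2⟩, Subgroup.mem_subgroupOf.2 (hUN u.2)⟩
    refine h.trans ?_
    have h2 := hE₁v u 1 (one_mem P)
    rw [← h2]
    exact congrArg E₁ (Subtype.ext (mul_one _).symm)
  obtain ⟨ψ₁, k₁, hψ₁, hk₁, hnl₁, hdvd₁⟩ :=
    hover η₁ hη₁ d ((hη₁.same_degree L hinv hη₀).trans hdd)
  have hne₀ : ψ₀ 1 ≠ 1 := by
    rw [hdeg₀, hdd, ← Nat.cast_mul, Ne, Nat.cast_eq_one]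
    intro h
    have := hsd η₀ hη₀ d hdd
    exact hs.not_dvd_one (h ▸ this.mul_left S.index)
  have hlt : stab (G := T) η₁ < S := lt_of_le_of_ne (hstab η₁ hη₁) fun h => hmov₁ (by
    have h2 : c ∈ stab (G := T) η₁ := h ▸ hcS
    rw [mem_stab, conjG_eq_comp] at h2
    exact h2)
  have hdvdS : S.index ∣ (stab (G := T) η₁).index := Subgroup.index_dvd_of_le hlt.le
  have hk0eq : ψ₀ 1 = ((S.index * d : ℕ) : ℂ) := by rw [hdeg₀, hdd, Nat.cast_mul]
  have h := hanti ψ₀ ψ₁ hψ₀ hψ₁ hne₀ hnl₁ _ _ hk0eq hk₁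
    ((Nat.mul_dvd_mul_right hdvdS d).trans hdvd₁)
  have hd0 : 0 < d := Nat.pos_of_ne_zero fun h0 =>
    IsIrrCharacter.apply_one_ne_zero hη₀.1 (by rw [hdd, h0, Nat.cast_zero])
  have hk1pos : 0 < k₁ := Nat.pos_of_ne_zero fun h0 =>
    IsIrrCharacter.apply_one_ne_zero hψ₁ (by rw [hk₁, h0, Nat.cast_zero])
  have hle := Nat.le_of_dvd hk1pos hdvd₁
  rw [← h] at hle
  exact absurd (Nat.le_of_mul_le_mul_right hle hd0) (not_le.2 (Subgroup.index_strictAnti hlt))

omit hne hx hd hcard in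
/-- All nonlinear degrees are equal. -/
theorem degree_eq_of_moved (σ : T ≃* T) {ℓ : ℕ} (hℓ : ℓ.Prime) (t₀ : T)
    (ht₀ : ∃ i, orderOf t₀ = ℓ ^ i) (hσ : ∀ y, (σ ^ ℓ) y = t₀ * y * t₀⁻¹)
    (hfix : ∀ χ : T → ℂ, Cfsg.IsIrrCharacter T χ → χ 1 ≠ 1 → χ ∘ σ = χ)
    (hnd : ∀ χ : T → ℂ, Cfsg.IsIrrCharacter T χ → χ 1 ≠ 1 → ∀ k : ℕ, χ 1 = k → ¬ ℓ ∣ k)
    {r : ℕ} (hr : r.Prime) {x : T} (hxr : x ^ r = 1) (hx : σ x * x⁻¹ ∉ commutator T)
    (hrU : ¬ r ∣ Nat.card (commutator T))
    (hanti : ∀ χ ψ : T → ℂ, Cfsg.IsIrrCharacter T χ → Cfsg.IsIrrCharacter T ψ → χ 1 ≠ 1 → ψ 1 ≠ 1 →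
      ∀ a b : ℕ, χ 1 = a → ψ 1 = b → a ∣ b → a = b) :
    ∀ χ ψ : T → ℂ, Cfsg.IsIrrCharacter T χ → Cfsg.IsIrrCharacter T ψ → χ 1 ≠ 1 → ψ 1 ≠ 1 →
      χ 1 = ψ 1 := by
  classical
  set C := Subgroup.centralizer ({x} : Set T)
  have hd : Disjoint (commutator T) C := by
    rw [disjoint_iff, eq_bot_iff]
    rintro u ⟨hu, huC⟩
    have hcomm : u * x = x * u := Subgroup.mem_centralizer_singleton_iff.1 huC
    obtain ⟨g, hg⟩ := isConj_iff.1 ((moved_classes σ hfix).1 x (x * u) hx (by simpa using hu))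
    have h1 : (x * u) ^ r = 1 := by
      rw [← hg, ← map_one (MulAut.conj g), ← hxr, map_pow]
      rfl
    rw [(show Commute x u from hcomm.symm).mul_pow, hxr, one_mul] at h1
    refine Subgroup.mem_bot.2 (orderOf_eq_one_iff.1 ?_)
    rcases (Nat.dvd_prime hr).1 (orderOf_dvd_of_pow_eq_one h1) with h | h
    · exact h
    · exact absurd (h ▸ (Subgroup.orderOf_mk u hu ▸ orderOf_dvd_natCard (⟨u, hu⟩ : commutator T))) hrU
  have hcard : Nat.card C = (commutator T).index := card_centralizer_of_moved σ hfix hx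
  let D : Setting T := ⟨σ, ℓ, t₀, hℓ, ht₀, hσ, hfix, hnd,
    fun t ht u hu h => fpf_of_complement σ hfix hd hcard t ht u hu h⟩
  intro χ ψ hχ hψ h1 h2
  have hUbot : commutator T ≠ ⊥ := by
    intro h
    refine h1 (apply_one_eq_one_of_comm (fun a b => ?_) hχ)
    have hab : ⁅a, b⁆ ∈ commutator T :=
      Subgroup.commutator_mem_commutator (Subgroup.mem_top a) (Subgroup.mem_top b)
    rw [h, Subgroup.mem_bot, commutatorElement_eq_one_iff_mul_comm] at hab
    exact hab
  haveI : Group.IsNilpotent (commutator T) := OddOrder.FPFTools.isNilpotent_of_fpf hr hxr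
    (by rw [Subgroup.normalizer_eq_top]; exact Subgroup.mem_top x) hd.eq_bot
  haveI : Nontrivial (commutator T) := (Subgroup.nontrivial_iff_ne_bot _).2 hUbot
  have hne : ∃ φ : commutator T →* ℂˣ, φ ≠ 1 := by
    obtain ⟨q, -, hq⟩ := SetLike.exists_of_lt
      (Group.IsSolvable.commutator_lt_top_of_nontrivial (commutator T))
    have : NeZero (Monoid.exponent (Abelianization (commutator T)) : ℂ) :=
      ⟨by exact_mod_cast Monoid.exponent_ne_zero_of_finite⟩
    obtain ⟨φ, hφ⟩ := CommGroup.exists_apply_ne_one_of_hasEnoughRootsOfUnity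
      (Abelianization (commutator T)) ℂ (a := Abelianization.of q)
      (fun h => hq ((QuotientGroup.eq_one_iff q).1 h))
    exact ⟨φ.comp Abelianization.of, fun h => hφ (DFunLike.congr_fun h q)⟩
  have hcomm := commutator_comm D hne hx hd hcard hanti
  rw [degree_eq_of_comm D hne hx hd hcard hcomm hχ h1,
    degree_eq_of_comm D hne hx hd hcard hcomm hψ h2]

end CfsgLib.Char.NoDivide
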