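import Cfsg.Agent.Lib.Char.Perm
import Cfsg.Agent.Lib.Char.Linear
import Cfsg.Agent.Lib.Char.Clifford

/-!
# An automorphism fixing all nonlinear irreducible characters

If `σ` fixes every nonlinear irreducible character of `T`, then every coset of `T'` moved by `σ` is a
conjugacy class, and every class inside a fixed coset is fixed.
-/

set_option autoImplicit false

namespace CfsgLib.Char.NoDivide

open CfsgLib CfsgLib.Char

universe u

variable {T : Type u} [Group T]

theorem of_eq_of_iff {x y : T} :
    Abelianization.of x = Abelianization.of y ↔ x⁻¹ * y ∈ commutator T :=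
  QuotientGroup.eq

theorem mul_inv_mem_iff {x y : T} :
    y * x⁻¹ ∈ commutator T ↔ Abelianization.of y = Abelianization.of x := by
  rw [eq_comm, of_eq_of_iff, Subgroup.Normal.mem_comm_iff inferInstance]

theorem card_split {α β : Type*} [Finite α] [Finite β] (p : α → Prop) (q : β → Prop)
    (h : Nat.card α = Nat.card β) (hp : Nat.card {a // p a} = Nat.card {b // q b}) :
    Nat.card {a // ¬ p a} = Nat.card {b // ¬ q b} := by
  classical
  rw [← Nat.card_congr (Equiv.sumCompl p), ← Nat.card_congr (Equiv.sumCompl q), Nat.card_sum,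
    Nat.card_sum, hp] at h
  exact Nat.add_left_cancel h

variable [Finite T] (σ : T ≃* T)

theorem card_moved_hom : Nat.card {φ : T →* ℂˣ // ¬ φ.comp σ.toMonoidHom = φ} =
    Nat.card {a : Abelianization T // ¬ σ.abelianizationCongr a = a} := by
  classical
  haveI := Fintype.ofFinite (Abelianization T)
  set f := σ.abelianizationCongr
  have : NeZero (Monoid.exponent (Abelianization T) : ℂ) :=
    ⟨by exact_mod_cast Monoid.exponent_ne_zero_of_finite⟩
  haveI : Finite (Abelianization T →* ℂˣ) := Finite.of_injective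
    (fun φ => (⟨fun g => (φ g : ℂ), isIrrCharacter_hom φ⟩ : Cfsg.IrrCharacter (Abelianization T)))
    fun a b h => coe_hom_injective (congrArg Subtype.val h)
  haveI : Finite (T →* ℂˣ) := Finite.of_equiv _ Abelianization.lift.symm
  refine card_split _ _ ?_ ?_
  · rw [Nat.card_congr Abelianization.lift,
      CommGroup.card_monoidHom_of_hasEnoughRootsOfUnity (Abelianization T) ℂ]
  · let e : (T →* ℂˣ) ≃ Cfsg.IrrCharacter (Abelianization T) :=
      Abelianization.lift.trans <| homEquivLinear.trans <|
        Equiv.subtypeUnivEquiv fun χ => apply_one_eq_one_of_comm (fun a b => mul_comm a b) χ.2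
    have he : ∀ (φ : T →* ℂˣ) (x : T),
        (e φ : Abelianization T → ℂ) (Abelianization.of x) = (φ x : ℂ) := fun φ x => rfl
    have h := card_fixed_irr_eq (G := Abelianization T) f
      (fun a b hab => by rw [isConj_iff_eq] at hab ⊢; rw [hab])
      (fun χ hχ => IsIrrCharacter.comp_equiv hχ f)
    have h2 : Nat.card {C : ConjClasses (Abelianization T) //
        ∀ g, ConjClasses.mk g = C → IsConj (f g) g} = Nat.card {a : Abelianization T // f a = a} := by
      refine (Nat.card_congr (Equiv.subtypeEquiv ConjClasses.mkEquiv fun a => ?_)).symm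
      refine ⟨fun ha g hg => ?_, fun ha => ?_⟩
      · have hg' : g = a := isConj_iff_eq.1
          (ConjClasses.mk_eq_mk_iff_isConj.1 (hg : ConjClasses.mk g = ConjClasses.mk a))
        rw [hg', ha]
      · exact isConj_iff_eq.1 (ha a rfl)
    rw [← h2, ← h]
    refine Nat.card_congr (Equiv.subtypeEquiv e fun φ => ⟨fun hφ => funext fun a => ?_, fun hφ => ?_⟩)
    · obtain ⟨x, rfl⟩ := QuotientGroup.mk_surjective a
      show (e φ : Abelianization T → ℂ) (Abelianization.of (σ x)) = _
      rw [he]
      exact (congrArg (fun ψ : T →* ℂˣ => (ψ x : ℂ)) hφ).trans (he φ x).symm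
    · ext x
      have := congrFun hφ (Abelianization.of x)
      rw [Function.comp_apply, abelianizationCongr_of, he, he] at this
      exact this

variable (hfix : ∀ χ : T → ℂ, Cfsg.IsIrrCharacter T χ → χ 1 ≠ 1 → χ ∘ σ = χ)
include hfix

theorem moved_classes : (∀ x y : T, σ x * x⁻¹ ∉ commutator T → x⁻¹ * y ∈ commutator T → IsConj x y) ∧
    ∀ x : T, σ x * x⁻¹ ∈ commutator T → IsConj (σ x) x := by
  classical
  haveI := Fintype.ofFinite T
  set f := σ.abelianizationCongr
  have hconj : ∀ a b, IsConj a b → IsConj (σ a) (σ b) := fun a b h => σ.toMonoidHom.map_isConj h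
  have hirr : ∀ χ : T → ℂ, Cfsg.IsIrrCharacter T χ → Cfsg.IsIrrCharacter T (χ ∘ σ) := fun χ hχ =>
    IsIrrCharacter.comp_equiv hχ σ
  let P : ConjClasses T → Prop := fun C => ∀ g, ConjClasses.mk g = C → IsConj (σ g) g
  have hk : Nat.card {χ : Cfsg.IrrCharacter T // ¬ (χ : T → ℂ) ∘ σ = χ} =
      Nat.card {C : ConjClasses T // ¬ P C} :=
    card_split _ P card_irrCharacter (card_fixed_irr_eq σ hconj hirr)
  have hlin : Nat.card {χ : Cfsg.IrrCharacter T // ¬ (χ : T → ℂ) ∘ σ = χ} =
      Nat.card {a : Abelianization T // ¬ f a = a} := by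
    rw [← card_moved_hom σ]
    refine (Nat.card_congr (Equiv.ofBijective
      (fun φ => ⟨⟨_, isIrrCharacter_hom φ.1⟩, fun h => φ.2 (coe_hom_injective h)⟩)
      ⟨fun a b h => Subtype.ext (coe_hom_injective (congrArg (fun z => (z.1 : T → ℂ)) h)),
        fun χ => ?_⟩)).symm
    have h1 : (χ.1 : T → ℂ) 1 = 1 := by_contra fun h => χ.2 (hfix _ χ.1.2 h)
    obtain ⟨φ, hφ⟩ := exists_hom_of_apply_one_eq_one (IsIrrCharacter.isCharacter χ.1.2) h1
    refine ⟨⟨φ, fun h => χ.2 ?_⟩, Subtype.ext (Subtype.ext hφ.symm)⟩
    rw [hφ]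
    exact funext fun x => congrArg (fun ψ : T →* ℂˣ => (ψ x : ℂ)) h
  -- the classes above moved elements of the abelianisation are moved
  let π : ConjClasses T → Abelianization T := fun C =>
    Quotient.liftOn' C Abelianization.of fun a b h => by
      obtain ⟨c, rfl⟩ := isConj_iff.1 h
      rw [map_mul, map_mul, map_inv, mul_right_comm, mul_inv_cancel, one_mul]
  have hπ : ∀ x, π (ConjClasses.mk x) = Abelianization.of x := fun x => rfl
  have hsub : ∀ C, ¬ f (π C) = π C → ¬ P C := by
    intro C
    induction C using Quotient.inductionOn' with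
    | h x =>
      intro hx hP
      apply hx
      have h := hP x rfl
      obtain ⟨c, hc⟩ := isConj_iff.1 h
      show f (Abelianization.of x) = Abelianization.of x
      rw [abelianizationCongr_of]
      conv_rhs => rw [← hc]
      rw [map_mul, map_mul, map_inv, mul_right_comm, mul_inv_cancel, one_mul]
  let F : {C : ConjClasses T // ¬ f (π C) = π C} → {a : Abelianization T // ¬ f a = a} :=
    fun C => ⟨π C.1, C.2⟩
  have hsurj : Function.Surjective F := fun ⟨a, ha⟩ => by
    obtain ⟨x, rfl⟩ := QuotientGroup.mk_surjective a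
    exact ⟨⟨ConjClasses.mk x, ha⟩, rfl⟩
  let J : {C : ConjClasses T // ¬ f (π C) = π C} → {C : ConjClasses T // ¬ P C} :=
    fun C => ⟨C.1, hsub C.1 C.2⟩
  have hJ : Function.Injective J := fun a b h => Subtype.ext (congrArg (fun z => z.1) h)
  have hle1 := Nat.card_le_card_of_surjective F hsurj
  have hle2 := Nat.card_le_card_of_injective J hJ
  rw [hk] at hlin
  have hFinj : Function.Injective F :=
    (Nat.bijective_iff_surjective_and_card F).2 ⟨hsurj, by omega⟩ |>.1
  have hJsurj : Function.Surjective J :=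
    (Nat.bijective_iff_injective_and_card J).2 ⟨hJ, by omega⟩ |>.2
  refine ⟨fun x y hx hxy => ?_, fun x hx => ?_⟩
  · have hxy' := of_eq_of_iff.2 hxy
    have hmx : ¬ f (π (ConjClasses.mk x)) = π (ConjClasses.mk x) := by
      rw [hπ, abelianizationCongr_of]
      exact fun h => hx (mul_inv_mem_iff.2 h)
    have hmy : ¬ f (π (ConjClasses.mk y)) = π (ConjClasses.mk y) := by
      rw [hπ, ← hxy', ← hπ]
      exact hmx
    have := @hFinj ⟨_, hmx⟩ ⟨_, hmy⟩ (Subtype.ext hxy')
    exact ConjClasses.mk_eq_mk_iff_isConj.1 (congrArg (fun z => z.1) this)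
  · by_contra hne
    obtain ⟨C, hC⟩ := hJsurj ⟨ConjClasses.mk x, fun hP => hne (hP x rfl)⟩
    refine C.2 ?_
    rw [show C.1 = ConjClasses.mk x from congrArg (fun z => z.1) hC, hπ, abelianizationCongr_of]
    exact mul_inv_mem_iff.1 hx

/-- The centraliser of an element in a moved coset has order `|T : T'|`. -/
theorem card_centralizer_of_moved {x : T} (hx : σ x * x⁻¹ ∉ commutator T) :
    Nat.card (Subgroup.centralizer ({x} : Set T)) = (commutator T).index := by
  classical
  have h := card_conjugates_mul x
  have he : Nat.card {g : T // IsConj g x} = Nat.card (commutator T) := by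
    refine Nat.card_congr
      { toFun := fun g => ⟨x⁻¹ * g.1, ?_⟩
        invFun := fun u => ⟨x * u.1, ((moved_classes σ hfix).1 x _ hx (by simp [u.2])).symm⟩
        left_inv := fun g => by simp
        right_inv := fun u => by simp }
    obtain ⟨c, hc⟩ := isConj_iff.1 g.2.symm
    rw [← of_eq_of_iff, ← hc, map_mul, map_mul, map_inv, mul_right_comm, mul_inv_cancel, one_mul]
  rw [he, ← (commutator T).card_mul_index] at h
  exact Nat.eq_of_mul_eq_mul_left Nat.card_pos h

end CfsgLib.Char.NoDivide
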