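import Cfsg.Agent.Lib.Char.NoDivide.OrbitCount
import Cfsg.Agent.Lib.Char.NoDivide.Classes
import Cfsg.Agent.Lib.Char.LinearOverNormal

/-!
# The action on linear characters of sections of the derived subgroup
-/

set_option autoImplicit false

namespace CfsgLib.Char.NoDivide

open CfsgLib CfsgLib.Char CfsgLib.Char.LinearOverNormal

universe u

/-- An automorphism fixing every nonlinear irreducible character, whose `ℓ`-th power is conjugation
by an element of `ℓ`-power order, `ℓ` dividing no nonlinear degree, and with fixed-point-free moved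
elements on the derived subgroup. -/
structure Setting (T : Type u) [Group T] where
  σ : T ≃* T
  ℓ : ℕ
  t₀ : T
  ℓ_prime : ℓ.Prime
  t₀_ord : ∃ i, orderOf t₀ = ℓ ^ i
  σ_pow : ∀ x, (σ ^ ℓ) x = t₀ * x * t₀⁻¹
  fix_nonlinear : ∀ χ : T → ℂ, Cfsg.IsIrrCharacter T χ → χ 1 ≠ 1 → χ ∘ σ = χ
  not_dvd : ∀ χ : T → ℂ, Cfsg.IsIrrCharacter T χ → χ 1 ≠ 1 → ∀ k : ℕ, χ 1 = k → ¬ ℓ ∣ k
  moved_fpf : ∀ t : T, σ t * t⁻¹ ∉ commutator T → ∀ u ∈ commutator T, u * t = t * u → u = 1

variable {T : Type u} [Group T] [Fintype T]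

theorem normal_of_commutator_le {S : Subgroup T} (hS : commutator T ≤ S) : S.Normal :=
  ⟨fun n hn g => by
    have h : g * n * g⁻¹ * n⁻¹ ∈ S :=
      hS (Subgroup.commutator_mem_commutator (Subgroup.mem_top g) (Subgroup.mem_top n))
    have := mul_mem h hn
    rwa [inv_mul_cancel_right] at this⟩

/-- A subgroup above `T'` containing the elements of `ℓ`-power order is closed under `ℓ`-th roots. -/
theorem mem_of_pow_mem {S : Subgroup T} (hS : commutator T ≤ S) {ℓ : ℕ} (hℓ : ℓ.Prime)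
    (hell : ∀ t : T, (∃ i, orderOf t = ℓ ^ i) → t ∈ S) {t : T} (ht : t ^ ℓ ∈ S) : t ∈ S := by
  haveI := normal_of_commutator_le hS
  obtain ⟨i, m, hm, hn⟩ := Nat.exists_eq_pow_mul_and_not_dvd (orderOf_pos t).ne' ℓ hℓ.ne_one
  have hm0 : m ≠ 0 := fun h => hm (h ▸ dvd_zero ℓ)
  have hmem : t ^ m ∈ S := hell _ ⟨i, by
    rw [orderOf_pow' t hm0, hn, Nat.gcd_eq_right (dvd_mul_left m _),
      Nat.mul_div_cancel _ (Nat.pos_of_ne_zero hm0)]⟩
  have h1 : orderOf (t : T ⧸ S) ∣ ℓ :=
    orderOf_dvd_of_pow_eq_one (by rw [← QuotientGroup.mk_pow, QuotientGroup.eq_one_iff]; exact ht)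
  have h2 : orderOf (t : T ⧸ S) ∣ m :=
    orderOf_dvd_of_pow_eq_one (by rw [← QuotientGroup.mk_pow, QuotientGroup.eq_one_iff]; exact hmem)
  have h3 := Nat.dvd_gcd h1 h2
  rw [((hℓ.coprime_iff_not_dvd).2 hm).gcd_eq_one, Nat.dvd_one, orderOf_eq_one_iff,
    QuotientGroup.eq_one_iff] at h3
  exact h3

variable (W : Subgroup T) [hWn : W.Normal]

/-- The linear characters of `W` fixed by `T'`. -/
def Inv : Subgroup (W →* ℂˣ) where
  carrier := {φ | ∀ u ∈ commutator T, cj u φ = φ}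
  one_mem' u _ := by ext n; simp [cj]
  mul_mem' {a b} ha hb u hu := by rw [cj_mul, ha u hu, hb u hu]
  inv_mem' {a} ha u hu := by
    ext n
    have := congrArg (fun ψ : W →* ℂˣ => ψ n) (ha u hu)
    simp only [cj, MonoidHom.comp_apply, MonoidHom.inv_apply] at this ⊢
    rw [this]

omit [Fintype T] in
theorem cj_mem_inv (t : T) {φ : W →* ℂˣ} (h : φ ∈ Inv W) : cj t φ ∈ Inv W := by
  intro u hu
  rw [← cj_comp, show t * u = t * u * t⁻¹ * t by group, cj_comp,
    h _ (Subgroup.Normal.conj_mem inferInstance u hu t)]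

/-- Conjugation on the invariant linear characters. -/
noncomputable def actHom : T →* MulAut (Inv W) :=
  MonoidHom.mk' (fun t =>
    { toFun := fun φ => ⟨cj t⁻¹ φ.1, cj_mem_inv W t⁻¹ φ.2⟩
      invFun := fun φ => ⟨cj t φ.1, cj_mem_inv W t φ.2⟩
      left_inv := fun φ => Subtype.ext
        ((cj_comp t⁻¹ t φ.1).symm.trans ((inv_mul_cancel t).symm ▸ cj_one φ.1))
      right_inv := fun φ => Subtype.ext
        ((cj_comp t t⁻¹ φ.1).symm.trans ((mul_inv_cancel t).symm ▸ cj_one φ.1))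
      map_mul' := fun φ ψ => Subtype.ext (cj_mul t⁻¹ φ.1 ψ.1) })
    fun a b => MulEquiv.ext fun φ => Subtype.ext (by
      show cj (a * b)⁻¹ φ.1 = cj a⁻¹ (cj b⁻¹ φ.1)
      rw [mul_inv_rev, cj_comp])

omit [Fintype T] in
theorem actHom_coe (t : T) (φ : Inv W) : ((actHom W t φ : Inv W) : W →* ℂˣ) = cj t⁻¹ φ.1 := rfl

/-- The action of the abelianisation. -/
noncomputable def actAb : Abelianization T →* MulAut (Inv W) :=
  QuotientGroup.lift (commutator T) (actHom W) fun u hu =>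
    MulEquiv.ext fun φ => Subtype.ext (φ.2 u⁻¹ (inv_mem hu))

omit [Fintype T] in
theorem actAb_of (t : T) (φ : Inv W) : actAb W (Abelianization.of t) φ = actHom W t φ := rfl

variable (D : Setting T)

/-- `σ` on `W`. -/
noncomputable def resEquiv (hW : ∀ w ∈ W, D.σ w ∈ W) : W ≃* W :=
  MulEquiv.ofBijective
    (MonoidHom.mk' (fun w : W => (⟨D.σ w, hW w w.2⟩ : W)) fun a b => Subtype.ext (map_mul D.σ _ _))
    (Finite.injective_iff_bijective.1 fun a b h =>
      Subtype.ext (D.σ.injective (congrArg Subtype.val h)))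

variable (hWU : W ≤ commutator T) (hW : ∀ w ∈ W, D.σ w ∈ W)

theorem resEquiv_coe (w : W) : ((resEquiv W D hW w : W) : T) = D.σ w := rfl

theorem resEquiv_symm_coe (w : W) : D.σ ((resEquiv W D hW).symm w : T) = w := by
  rw [← resEquiv_coe W D hW, MulEquiv.apply_symm_apply]

/-- Precomposition with `σ⁻¹`, as a map of linear characters. -/
noncomputable def pullHom (φ : W →* ℂˣ) : W →* ℂˣ := φ.comp (resEquiv W D hW).symm.toMonoidHom

theorem pull_mem {φ : W →* ℂˣ} (h : φ ∈ Inv W) : pullHom W D hW φ ∈ Inv W := by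
  intro u hu
  have hu' : D.σ.symm u ∈ commutator T := by
    have h := Subgroup.map_commutator ⊤ ⊤ D.σ.symm.toMonoidHom
    rw [Subgroup.map_top_of_surjective _ D.σ.symm.surjective] at h
    exact (h ▸ Subgroup.mem_map_of_mem D.σ.symm.toMonoidHom hu :
      D.σ.symm u ∈ ⁅(⊤ : Subgroup T), ⊤⁆)
  refine MonoidHom.ext fun w => ?_
  have h1 := DFunLike.congr_fun (h _ hu') ((resEquiv W D hW).symm w)
  refine Eq.trans (congrArg φ ?_) h1
  apply (resEquiv W D hW).injective
  rw [MulEquiv.coe_toMonoidHom, MulEquiv.coe_toMonoidHom, MulEquiv.apply_symm_apply]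
  apply Subtype.ext
  simp only [MulEquiv.coe_toMonoidHom, resEquiv_coe, MulAut.conjNormal_apply, map_mul, map_inv,
    MulEquiv.apply_symm_apply, resEquiv_symm_coe]

/-- `σ` on the invariant linear characters. -/
noncomputable def actAut : MulAut (Inv W) :=
  MulEquiv.ofBijective
    (MonoidHom.mk' (fun φ : Inv W => (⟨pullHom W D hW φ.1, pull_mem W D hW φ.2⟩ : Inv W))
      fun a b => rfl)
    (Finite.injective_iff_bijective (α := Inv W) |>.1 fun a b h => Subtype.ext (MonoidHom.ext fun w => by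
      have := DFunLike.congr_fun (congrArg Subtype.val h) (resEquiv W D hW w)
      simpa [pullHom] using this))

theorem actAut_apply (φ : Inv W) (w : W) :
    (actAut W D hW φ).1 (resEquiv W D hW w) = φ.1 w := by
  show φ.1 ((resEquiv W D hW).symm (resEquiv W D hW w)) = _
  rw [MulEquiv.symm_apply_apply]

include hWU

theorem over_nonlinear [Fintype W] {φ : W →* ℂˣ} (hφ : φ ≠ 1) {ψ : T → ℂ} (hψ : Cfsg.IsIrrCharacter T ψ)
    (ho : Over ψ (fn φ)) : ψ 1 ≠ 1 := by
  classical
  intro h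
  obtain ⟨f, hf⟩ := exists_hom_of_apply_one_eq_one (IsIrrCharacter.isCharacter hψ) h
  refine ho ?_
  rw [show (fun n : W => ψ n) = fn (1 : W →* ℂˣ) from funext fun n => by
    have : f n = 1 := Abelianization.commutator_subset_ker f (hWU n.2)
    simp [hf, fn, this]]
  exact classInner_irr_ne (isIrrCharacter_hom 1) (isIrrCharacter_hom φ) fun e =>
    hφ (coe_hom_injective e).symm

theorem ell_fix {φ : W →* ℂˣ} (hφ : φ ∈ Inv W) {t : T} (ht : ∃ i, orderOf t = D.ℓ ^ i) :
    cj t φ = φ := by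
  classical
  haveI := Fintype.ofFinite W
  rcases eq_or_ne φ 1 with rfl | h1
  · ext n; simp [cj]
  obtain ⟨ψ, hψ, ho⟩ := exists_over (G := T) (isIrrCharacter_hom φ)
  obtain ⟨d, -, hd⟩ := IsIrrCharacter.apply_one_eq hψ
  have hdvd := index_stab_mul_dvd hψ (isIrrCharacter_hom φ) ho hd (k := 1) (by simp [fn])
  rw [mul_one] at hdvd
  set S := stab (G := T) (fn φ)
  haveI := normal_of_commutator_le (S := S) fun u hu => mem_stab_fn.2 (hφ u hu)
  obtain ⟨i, hi⟩ := ht
  have h2 : orderOf (t : T ⧸ S) ∣ D.ℓ ^ i := hi ▸ orderOf_map_dvd (QuotientGroup.mk' S) t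
  have h3 : orderOf (t : T ⧸ S) ∣ S.index := orderOf_dvd_natCard _
  have hc : (D.ℓ ^ i).Coprime S.index := Nat.Coprime.pow_left _ (D.ℓ_prime.coprime_iff_not_dvd.2
    fun h => D.not_dvd ψ hψ (over_nonlinear W hWU h1 hψ ho) d hd (h.trans hdvd))
  have h4 := Nat.dvd_gcd h2 h3
  rw [hc.gcd_eq_one, Nat.dvd_one, orderOf_eq_one_iff, QuotientGroup.eq_one_iff] at h4
  exact mem_stab_fn.1 h4

theorem root_fix {φ : W →* ℂˣ} (hφ : φ ∈ Inv W) {t : T} (ht : cj (t ^ D.ℓ) φ = φ) : cj t φ = φ :=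
  mem_stab_fn.1 (mem_of_pow_mem (S := stab (G := T) (fn φ)) (fun u hu => mem_stab_fn.2 (hφ u hu))
    D.ℓ_prime (fun _ h => mem_stab_fn.2 (ell_fix W D hWU hφ h)) (mem_stab_fn.2 ht))

/-- A nontrivial character fixed by `t` forces `t` into a fixed coset. -/
theorem fixed_coset {φ : W →* ℂˣ} (h1 : φ ≠ 1) {t : T} (ht : cj t φ = φ) :
    D.σ t * t⁻¹ ∈ commutator T := by
  by_contra hm
  apply h1
  let F : W → W := fun w =>
    ⟨t * w * t⁻¹ * (w : T)⁻¹, mul_mem (hWn.conj_mem _ w.2 t) (inv_mem w.2)⟩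
  have hF : Function.Injective F := by
    intro a b h
    have h' : t * a * t⁻¹ * (a : T)⁻¹ = t * b * t⁻¹ * (b : T)⁻¹ := congrArg Subtype.val h
    have hc : ((b : T)⁻¹ * a) * t = t * ((b : T)⁻¹ * a) := by
      calc ((b : T)⁻¹ * a) * t
          = (b : T)⁻¹ * (t * a * t⁻¹ * (a : T)⁻¹)⁻¹ * t * a := by group
        _ = (b : T)⁻¹ * (t * b * t⁻¹ * (b : T)⁻¹)⁻¹ * t * a := by rw [h']
        _ = t * ((b : T)⁻¹ * a) := by group
    have := D.moved_fpf t hm _ (mul_mem (inv_mem (hWU b.2)) (hWU a.2)) hc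
    exact Subtype.ext (inv_mul_eq_one.1 this).symm
  refine MonoidHom.ext fun w => ?_
  obtain ⟨v, rfl⟩ := Finite.surjective_of_injective hF w
  have h2 : φ (MulAut.conjNormal t v) = φ v := DFunLike.congr_fun ht v
  rw [show F v = MulAut.conjNormal t v * v⁻¹ from Subtype.ext (by simp [F]), map_mul, map_inv, h2,
    mul_inv_cancel, MonoidHom.one_apply]

include hW

theorem exists_orbit {φ : W →* ℂˣ} (h1 : φ ≠ 1) : ∃ t : T, pullHom W D hW φ = cj t φ := by
  classical
  haveI := Fintype.ofFinite W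
  obtain ⟨ψ, hψ, ho⟩ := exists_over (G := T) (isIrrCharacter_hom φ)
  have hfix := D.fix_nonlinear ψ hψ (over_nonlinear W hWU h1 hψ ho)
  have h' : Cfsg.classInner (fun n : W => ψ n) (fn (pullHom W D hW φ)) ≠ 0 := by
    have h := classInner_reindex (resEquiv W D hW).symm (fun n : W => ψ n) (fn φ)
    have e : ((fun n : W => ψ n) ∘ (resEquiv W D hW).symm) = fun n : W => ψ n := by
      funext n
      rw [Function.comp_apply, ← congrFun hfix ((resEquiv W D hW).symm n : T), Function.comp_apply,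
        resEquiv_symm_coe]
    rw [show fn (pullHom W D hW φ) = fn φ ∘ (resEquiv W D hW).symm from rfl, ← e, h]
    exact ho
  obtain ⟨g, hg⟩ := CharDeep.Clifford.exists_conj_of_constituent W hψ (isIrrCharacter_hom φ)
    (isIrrCharacter_hom (pullHom W D hW φ)) ho h'
  exact ⟨g, coe_hom_injective hg⟩

variable (hroot : ∀ t : T, D.σ (t ^ D.ℓ) * (t ^ D.ℓ)⁻¹ ∈ commutator T →
  D.σ t * t⁻¹ ∈ commutator T)

/-- The counting data attached to `W`. -/
noncomputable def orbitData : OrbitData (Abelianization T) (Inv W) where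
  ρ := actAb W
  σ := D.σ.abelianizationCongr
  s := actAut W D hW
  ℓ := D.ℓ
  compat a φ := by
    obtain ⟨t, rfl⟩ := QuotientGroup.mk_surjective a
    refine Subtype.ext (MonoidHom.ext fun w => ?_)
    obtain ⟨w, rfl⟩ := (resEquiv W D hW).surjective w
    show (actAut W D hW (actHom W t φ)).1 _ = (actHom W (D.σ t) (actAut W D hW φ)).1 _
    rw [actAut_apply, actHom_coe, actHom_coe]
    show φ.1 (MulAut.conjNormal t⁻¹ w) = (actAut W D hW φ).1 (MulAut.conjNormal (D.σ t)⁻¹ _)
    rw [← actAut_apply W D hW φ]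
    congr 1
    apply Subtype.ext
    simp only [resEquiv_coe, map_inv, MulAut.conjNormal_inv_apply, map_mul, map_inv]
  s_pow φ := by
    have key : ∀ (n : ℕ) (ψ : Inv W) (w w' : W), (D.σ ^ n) (w : T) = w' →
        (((actAut W D hW) ^ n) ψ).1 w' = ψ.1 w := by
      intro n
      induction n with
      | zero =>
        intro ψ w w' h
        rw [pow_zero, MulAut.one_apply, show w' = w from Subtype.ext h.symm]
      | succ n ih =>
        intro ψ w w' h
        rw [pow_succ, MulAut.mul_apply, ih (actAut W D hW ψ) (resEquiv W D hW w) w'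
          (by rw [resEquiv_coe, ← MulAut.mul_apply, ← pow_succ]; exact h), actAut_apply]
    refine Subtype.ext (MonoidHom.ext fun w => ?_)
    have hc := ell_fix W D hWU φ.2 D.t₀_ord
    obtain ⟨v, rfl⟩ := (MulAut.conjNormal D.t₀ : MulAut W).surjective w
    rw [key D.ℓ φ v _ (by rw [D.σ_pow, MulAut.conjNormal_apply])]
    exact (DFunLike.congr_fun hc v).symm
  stab_fixed φ hφ a h := by
    obtain ⟨t, rfl⟩ := QuotientGroup.mk_surjective a
    have h' : cj t⁻¹ φ.1 = φ.1 := congrArg Subtype.val h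
    have h2 := fixed_coset W D hWU (fun e => hφ (Subtype.ext e)) h'
    show Abelianization.of (D.σ t) = Abelianization.of t
    rw [mul_inv_mem_iff, map_inv, map_inv, map_inv, inv_inj] at h2
    exact h2
  orbit φ hφ := by
    obtain ⟨t, ht⟩ := exists_orbit W D hWU hW (φ := φ.1) fun e => hφ (Subtype.ext e)
    refine ⟨Abelianization.of t⁻¹, Subtype.ext ?_⟩
    show pullHom W D hW φ.1 = cj t⁻¹⁻¹ φ.1
    rw [inv_inv, ht]
  stab_root φ a h := by
    obtain ⟨t, rfl⟩ := QuotientGroup.mk_surjective a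
    have h' : cj (t ^ D.ℓ)⁻¹ φ.1 = φ.1 := congrArg Subtype.val h
    rw [← inv_pow] at h'
    exact Subtype.ext (root_fix W D hWU φ.2 h')
  fixed_root a h := by
    obtain ⟨t, rfl⟩ := QuotientGroup.mk_surjective a
    change Abelianization.of (D.σ (t ^ D.ℓ)) = Abelianization.of (t ^ D.ℓ) at h
    exact mul_inv_mem_iff.1 (hroot t (mul_inv_mem_iff.2 h))

omit hWU hW in
theorem abelianization_pow_fixed (a : Abelianization T) :
    (D.σ.abelianizationCongr ^ D.ℓ) a = a := by
  obtain ⟨t, rfl⟩ := QuotientGroup.mk_surjective a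
  have key : ∀ n : ℕ, (D.σ.abelianizationCongr ^ n) (Abelianization.of t) =
      Abelianization.of ((D.σ ^ n) t) := by
    intro n
    induction n with
    | zero => rfl
    | succ n ih => rw [pow_succ', MulAut.mul_apply, ih, abelianizationCongr_of, pow_succ', MulAut.mul_apply]
  show (D.σ.abelianizationCongr ^ D.ℓ) (Abelianization.of t) = Abelianization.of t
  rw [key, D.σ_pow, map_mul, map_mul, map_inv, mul_right_comm, mul_inv_cancel, one_mul]

end CfsgLib.Char.NoDivide
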