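import Cfsg.Agent.Lib.Char.LinearOverNormal
import Cfsg.Agent.Lib.Char.NoDivide.Extend
import Cfsg.Agent.Lib.Char.TwoDegrees.Basic
import Cfsg.Agent.Lib.CharDeep.Glauberman.Gallagher
import Cfsg.Agent.Lib.CharDeep.Palfy.Over
import Cfsg.Agent.Lib.CharDeep.Relative

/-!
# A single nonlinear degree when there is a nonabelian `r`-quotient with coprime kernel
-/

set_option autoImplicit false

namespace CfsgLib.Char.NoDivide

open CfsgLib CfsgLib.Char CfsgLib.Char.LinearOverNormal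
open scoped commutatorElement

universe u

variable {T : Type u} [Group T] [Fintype T]

theorem degree_eq_of_quotient {r n : ℕ} (hr : r.Prime) (M : Subgroup T) [M.Normal]
    (hcop : (Nat.card M).Coprime M.index) (hindex : M.index = r ^ n)
    (hnab : ∃ a b : T, ⁅a, b⁆ ∉ M)
    (hanti : ∀ χ ψ : T → ℂ, Cfsg.IsIrrCharacter T χ → Cfsg.IsIrrCharacter T ψ → χ 1 ≠ 1 → ψ 1 ≠ 1 →
      ∀ a b : ℕ, χ 1 = a → ψ 1 = b → a ∣ b → a = b) :
    ∀ χ ψ : T → ℂ, Cfsg.IsIrrCharacter T χ → Cfsg.IsIrrCharacter T ψ → χ 1 ≠ 1 → ψ 1 ≠ 1 →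
      χ 1 = ψ 1 := by
  classical
  haveI := Fintype.ofFinite (T ⧸ M)
  haveI := Fintype.ofFinite M
  -- a degree of the quotient
  obtain ⟨β, hβ⟩ : ∃ β : Cfsg.IrrCharacter (T ⧸ M), (β : T ⧸ M → ℂ) 1 ≠ 1 := by
    by_contra hall
    push Not at hall
    obtain ⟨a, b, hab⟩ := hnab
    refine hab ((QuotientGroup.eq_one_iff _).1 ?_)
    exact ((map_commutatorElement (QuotientGroup.mk' M) a b).trans
      (commutatorElement_eq_one_iff_mul_comm.2 (comm_iff_forall_linear.2 hall _ _)))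
  obtain ⟨j, hj, hjd⟩ := IsIrrCharacter.apply_one_dvd_card β.2
  rw [show Nat.card (T ⧸ M) = M.index from rfl, hindex] at hjd
  obtain ⟨i, -, rfl⟩ := (Nat.dvd_prime_pow hr).1 hjd
  set ψ₀ : T → ℂ := (β : T ⧸ M → ℂ) ∘ QuotientGroup.mk' M
  have hψ₀ : Cfsg.IsIrrCharacter T ψ₀ :=
    IsIrrCharacter.comp_surjective β.2 _ (QuotientGroup.mk'_surjective M)
  have hψ₀1 : ψ₀ 1 = ((r ^ i : ℕ) : ℂ) := by
    show (β : T ⧸ M → ℂ) (QuotientGroup.mk' M 1) = _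
    rw [map_one]
    exact hj
  have hnl₀ : ψ₀ 1 ≠ 1 := by
    rw [hψ₀1]
    exact fun h => hβ (hj.trans h)
  suffices key : ∀ ψ : T → ℂ, Cfsg.IsIrrCharacter T ψ → ψ 1 ≠ 1 → ψ 1 = ((r ^ i : ℕ) : ℂ) from
    fun χ ψ hχ hψ h1 h2 => (key χ hχ h1).trans (key ψ hψ h2).symm
  intro ψ hψ hnl
  obtain ⟨k, -, hk⟩ := IsIrrCharacter.apply_one_eq hψ
  have hrpow : ∀ a : ℕ, k = r ^ a → ψ 1 = ((r ^ i : ℕ) : ℂ) := by
    intro a ha
    rcases le_total a i with h | h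
    · rw [hk, hanti ψ ψ₀ hψ hψ₀ hnl hnl₀ k (r ^ i) hk hψ₀1 (ha ▸ Nat.pow_dvd_pow r h)]
    · rw [hk, ← hanti ψ₀ ψ hψ₀ hψ hnl₀ hnl (r ^ i) k hψ₀1 hk (ha ▸ Nat.pow_dvd_pow r h)]
  obtain ⟨θ, hθ, hθov⟩ : ∃ θ : M → ℂ, Cfsg.IsIrrCharacter M θ ∧ Over ψ θ := by
    obtain ⟨θ, hθ, hne⟩ := IsCharacter.exists_constituent
      (IsCharacter.restrict (IsIrrCharacter.isCharacter hψ) M)
      (fun h0 => IsIrrCharacter.apply_one_ne_zero hψ (congrFun h0 1))
    exact ⟨θ, hθ, hne⟩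
  obtain ⟨d, hd0, hd⟩ := IsIrrCharacter.apply_one_eq hθ
  set I := stab (G := T) θ
  have hMI : M ≤ I := le_stab (IsIrrCharacter.isClassFunction hθ)
  haveI := Fintype.ofFinite I
  obtain ⟨E, hE⟩ := CharDeep.Palfy.exists_ext_coprime hcop ⟨θ, hθ⟩
  have hEres : ∀ m : M, (E : I → ℂ) ⟨m, hMI m.2⟩ = θ m := hE
  obtain ⟨χ, hχ, -, hχ1⟩ := exists_of_extension hθ I hMI (fun g => Iff.rfl) E.2 hEres
  have hχ1' : χ 1 = ((I.index * d : ℕ) : ℂ) := by rw [hχ1, hd, Nat.cast_mul]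
  have hdvd := index_stab_mul_dvd hψ hθ hθov hk hd
  by_cases ha0 : I.index * d = 1
  · obtain ⟨e, he, hed⟩ := CharDeep.Relative.degree_ratio_dvd hψ M hθ hθov
    rw [hd, Nat.eq_one_of_mul_eq_one_left ha0, Nat.cast_one, mul_one, hk, Nat.cast_inj] at he
    subst he
    rw [hindex] at hed
    obtain ⟨a, -, ha⟩ := (Nat.dvd_prime_pow hr).1 hed
    exact hrpow a ha
  have hχnl : χ 1 ≠ 1 := by rw [hχ1', Ne, Nat.cast_eq_one]; exact ha0
  have hka : I.index * d = k := hanti χ ψ hχ hψ hχnl hnl _ _ hχ1' hk hdvd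
  -- the inertia group is abelian modulo `M`
  have hab : ∀ a ∈ I, ∀ b ∈ I, ⁅a, b⁆ ∈ M := by
    by_contra hcon
    push Not at hcon
    obtain ⟨a, ha, b, hb, hab⟩ := hcon
    let N : Subgroup I := M.subgroupOf I
    haveI := Fintype.ofFinite N
    haveI := Fintype.ofFinite (I ⧸ N)
    obtain ⟨γ, hγ⟩ : ∃ γ : Cfsg.IrrCharacter (I ⧸ N), (γ : I ⧸ N → ℂ) 1 ≠ 1 := by
      by_contra hall
      push Not at hall
      refine hab ?_
      have h := (QuotientGroup.eq_one_iff (N := N) ⁅(⟨a, ha⟩ : I), ⟨b, hb⟩⁆).1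
        ((map_commutatorElement (QuotientGroup.mk' N) _ _).trans
          (commutatorElement_eq_one_iff_mul_comm.2 (comm_iff_forall_linear.2 hall _ _)))
      exact h
    let e : N ≃* M := Subgroup.subgroupOfEquivOfLe hMI
    have hirr := CharDeep.Glauberman.isIrr_ext_mul (π := QuotientGroup.mk' N)
      (QuotientGroup.mk'_surjective N) (QuotientGroup.ker_mk' N) (θ := θ ∘ e) E.2
      (IsIrrCharacter.comp_equiv hθ e) (fun m => hEres ⟨((m : I) : T), m.2⟩) γ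
    obtain ⟨j, -, hj⟩ := IsIrrCharacter.apply_one_eq γ.2
    set F : I → ℂ := (E : I → ℂ) * ((γ : I ⧸ N → ℂ) ∘ QuotientGroup.mk' N)
    have hF1 : F 1 = ((d * j : ℕ) : ℂ) := by
      show (E : I → ℂ) 1 * (γ : I ⧸ N → ℂ) (QuotientGroup.mk' N 1) = _
      rw [map_one, hj, show (E : I → ℂ) 1 = θ 1 from (hEres 1).symm ▸ rfl, hd, Nat.cast_mul]
    have hFres : resLe hMI F = (j : ℂ) • θ := by
      funext m
      show (E : I → ℂ) _ * (γ : I ⧸ N → ℂ) (QuotientGroup.mk' N _) = (j : ℂ) * θ m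
      rw [hEres m, show QuotientGroup.mk' N (⟨m, hMI m.2⟩ : I) = 1 from
        (QuotientGroup.eq_one_iff _).2 (Subgroup.mem_subgroupOf.2 m.2), hj, mul_comm]
    have hj0 : (j : ℂ) ≠ 0 := hj ▸ IsIrrCharacter.apply_one_ne_zero γ.2
    obtain ⟨h1, -⟩ := indFun_inertia hMI hθ (fun g => ⟨fun h m => congrFun h m, fun h => funext h⟩)
      hirr (by rw [hFres, classInner_smul_left, classInner_irr_self hθ, mul_one]; exact hj0)
    have hval : Cfsg.indFun I F 1 = ((I.index * (d * j) : ℕ) : ℂ) := by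
      rw [indFun_one, hF1]
      push_cast
      ring
    have hne : Cfsg.indFun I F 1 ≠ 1 := by
      rw [hval, Ne, Nat.cast_eq_one, ← mul_assoc]
      exact fun h => ha0 (Nat.eq_one_of_mul_eq_one_right h)
    have heq := hanti χ _ hχ h1 hχnl hne _ _ hχ1' hval ⟨j, by ring⟩
    refine hγ ?_
    rw [hj]
    have hpos : 0 < I.index * d :=
      Nat.mul_pos (Nat.pos_of_ne_zero Subgroup.index_ne_zero_of_finite) hd0
    rw [← mul_assoc] at heq
    rw [show j = 1 from Nat.eq_of_mul_eq_mul_left hpos (by rw [← heq, mul_one]), Nat.cast_one]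
  have hA : ∀ a ∈ I.map (QuotientGroup.mk' M), ∀ b ∈ I.map (QuotientGroup.mk' M), a * b = b * a := by
    rintro _ ⟨a, ha, rfl⟩ _ ⟨b, hb, rfl⟩
    rw [← commutatorElement_eq_one_iff_mul_comm, ← map_commutatorElement]
    exact (QuotientGroup.eq_one_iff _).2 (hab a ha b hb)
  obtain ⟨j', hj', -, hle⟩ := TwoDegrees.degree_le_index hA β.2
  rw [hj, Nat.cast_inj] at hj'
  subst hj'
  rw [Subgroup.index_map_eq _ (QuotientGroup.mk'_surjective M) (by rwa [QuotientGroup.ker_mk'])] at hle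
  obtain ⟨m, -, hm⟩ := (Nat.dvd_prime_pow hr).1 (hindex ▸ Subgroup.index_dvd_of_le hMI)
  rw [hm] at hle
  have hdiv : r ^ i ∣ k := by
    rw [← hka, hm]
    exact (Nat.pow_dvd_pow r ((Nat.pow_le_pow_iff_right hr.one_lt).1 hle)).mul_right d
  rw [hk, ← hanti ψ₀ ψ hψ₀ hψ hnl₀ hnl (r ^ i) k hψ₀1 hk hdiv]

end CfsgLib.Char.NoDivide
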