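import Mathlib.GroupTheory.Index
import Mathlib.GroupTheory.Complement
import Mathlib.GroupTheory.PGroup
import Mathlib.Algebra.Group.End
import Mathlib.Tactic

/-!
# An automorphism moving points only inside the orbits of a commuting group of automorphisms

`A` acts on the finite abelian group `Φ`, `s` is an automorphism of `Φ` lying over an automorphism
`σ` of `A`, the stabiliser of every nontrivial element is fixed pointwise by `σ`, and `s` sends
every element into its orbit.  Then `Φ` is the disjoint union of equally large conjugates of the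
fixed subgroup of `s`, and no proper nontrivial subgroup is invariant.
-/

set_option autoImplicit false

namespace CfsgLib.Char.NoDivide

variable {A Φ : Type*} [CommGroup A] [CommGroup Φ]

/-- The data: see the module docstring. -/
structure OrbitData (A Φ : Type*) [CommGroup A] [CommGroup Φ] where
  ρ : A →* MulAut Φ
  σ : A ≃* A
  s : MulAut Φ
  ℓ : ℕ
  compat : ∀ a φ, s (ρ a φ) = ρ (σ a) (s φ)
  s_pow : ∀ φ, (s ^ ℓ) φ = φ
  stab_fixed : ∀ φ, φ ≠ 1 → ∀ a, ρ a φ = φ → σ a = a
  orbit : ∀ φ, φ ≠ 1 → ∃ a, s φ = ρ a φ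
  stab_root : ∀ φ a, ρ (a ^ ℓ) φ = φ → ρ a φ = φ
  fixed_root : ∀ a, σ (a ^ ℓ) = a ^ ℓ → σ a = a

namespace OrbitData

variable (D : OrbitData A Φ)

/-- `a ↦ σ a / a`. -/
def disp : A →* A := MonoidHom.mk' (fun a => D.σ a / a) fun a b => by
  simp [mul_div_mul_comm]

theorem disp_apply (a : A) : D.disp a = D.σ a / a := rfl

theorem mem_ker_disp (a : A) : a ∈ D.disp.ker ↔ D.σ a = a := by
  rw [MonoidHom.mem_ker, disp_apply, div_eq_one]

theorem eq_one_of_range_fixed {i : A} (hi : i ∈ D.disp.range) (hfix : D.σ i = i) (hl : i ^ D.ℓ = 1) :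
    i = 1 := by
  obtain ⟨a, rfl⟩ := hi
  have h : D.disp (a ^ D.ℓ) = 1 := by rw [map_pow, hl]
  rw [disp_apply, div_eq_one] at h
  rw [disp_apply, D.fixed_root a h, div_self']

/-- A fixed displacement is trivial as soon as `σ ^ ℓ` fixes its origin. -/
theorem pow_eq_one_of_fixed (hσ : ∀ a, (D.σ ^ D.ℓ) a = a) {i : A} (hi : i ∈ D.disp.range)
    (hfix : D.σ i = i) : i ^ D.ℓ = 1 := by
  obtain ⟨a, rfl⟩ := hi
  have key : ∀ n : ℕ, (D.σ ^ n) a = D.disp a ^ n * a := by
    intro n
    induction n with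
    | zero => simp
    | succ n ih =>
      rw [pow_succ', MulAut.mul_apply, ih, map_mul, map_pow, hfix, pow_succ, mul_assoc]
      congr 1
      rw [disp_apply, div_mul_cancel]
  have h := key D.ℓ
  rw [hσ a] at h
  exact mul_eq_right.1 h.symm

variable [Finite A] (hσ : ∀ a, (D.σ ^ D.ℓ) a = a)
include hσ

theorem exists_split (a : A) : ∃ i ∈ D.disp.range, ∃ b, D.σ b = b ∧ a = i * b := by
  have hinf : D.disp.range ⊓ D.disp.ker = ⊥ := by
    rw [eq_bot_iff]
    rintro i ⟨hi, hk⟩
    have hk' := (D.mem_ker_disp i).1 hk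
    exact Subgroup.mem_bot.2 (D.eq_one_of_range_fixed hi hk' (D.pow_eq_one_of_fixed hσ hi hk'))
  have hc : Nat.card D.disp.range * Nat.card D.disp.ker = Nat.card A := by
    rw [← Subgroup.index_ker, mul_comm, Subgroup.card_mul_index]
  have hcompl := Subgroup.isComplement'_of_card_mul_and_disjoint hc (disjoint_iff.2 hinf)
  obtain ⟨⟨x, y⟩, hxy⟩ := hcompl.2 a
  exact ⟨x, x.2, y, (D.mem_ker_disp _).1 y.2, hxy.symm⟩

theorem exists_disp_eq {φ : Φ} (hφ : φ ≠ 1) : ∃ i ∈ D.disp.range, D.s φ = D.ρ i φ := by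
  obtain ⟨a, ha⟩ := D.orbit φ hφ
  obtain ⟨i, hi, b, hb, rfl⟩ := D.exists_split hσ a
  refine ⟨i, hi, ?_⟩
  have key : ∀ n : ℕ, ∃ j ∈ D.disp.range, (D.s ^ n) φ = D.ρ (j * b ^ n) φ := by
    intro n
    induction n with
    | zero => exact ⟨1, one_mem _, by simp⟩
    | succ n ih =>
      obtain ⟨j, ⟨a, rfl⟩, hj'⟩ := ih
      refine ⟨D.disp (D.σ a) * i, mul_mem ⟨_, rfl⟩ hi, ?_⟩
      rw [pow_succ', MulAut.mul_apply, hj', D.compat, ha, ← MulAut.mul_apply, ← map_mul]
      congr 2
      rw [map_mul, map_pow, hb, pow_succ, show D.σ (D.disp a) = D.disp (D.σ a) by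
        simp [disp_apply]]
      ac_rfl
  obtain ⟨j, hj, hj'⟩ := key D.ℓ
  rw [D.s_pow] at hj'
  have hfix : D.σ (j * b ^ D.ℓ) = j * b ^ D.ℓ := D.stab_fixed φ hφ _ hj'.symm
  rw [map_mul, map_pow, hb, mul_left_inj] at hfix
  have hj1 := D.eq_one_of_range_fixed hj hfix (D.pow_eq_one_of_fixed hσ hj hfix)
  rw [hj1, one_mul] at hj'
  have hbφ := D.stab_root φ b hj'.symm
  rw [ha, map_mul, MulAut.mul_apply, hbφ]

/-- Two displacements acting alike at a nontrivial point are equal. -/
theorem disp_unique {φ : Φ} (hφ : φ ≠ 1) {i j : A} (hi : i ∈ D.disp.range) (hj : j ∈ D.disp.range)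
    (h : D.ρ i φ = D.ρ j φ) : i = j := by
  have h2 : D.ρ (i⁻¹ * j) φ = φ := by
    rw [map_mul, MulAut.mul_apply, ← h, ← MulAut.mul_apply, ← map_mul, inv_mul_cancel, map_one,
      MulAut.one_apply]
  have h3 := D.stab_fixed φ hφ _ h2
  exact inv_mul_eq_one.1 (D.eq_one_of_range_fixed (mul_mem (inv_mem hi) hj) h3
    (D.pow_eq_one_of_fixed hσ (mul_mem (inv_mem hi) hj) h3))

omit hσ [Finite A] in
/-- The elements on which `s` agrees with `i`. -/
def loc (i : A) : Subgroup Φ := MonoidHom.eqLocus D.s.toMonoidHom (D.ρ i).toMonoidHom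

omit hσ [Finite A] in
theorem mem_loc {i : A} {φ : Φ} : φ ∈ D.loc i ↔ D.s φ = D.ρ i φ := Iff.rfl

omit hσ [Finite A] in
theorem loc_shift (a : A) : (D.loc 1).map (D.ρ a).toMonoidHom = D.loc (D.disp a) := by
  ext φ
  constructor
  · rintro ⟨x, hx, rfl⟩
    have hx' : D.s x = x := by simpa [mem_loc] using hx
    rw [mem_loc, MulEquiv.coe_toMonoidHom, D.compat, hx', ← MulAut.mul_apply, ← map_mul,
      disp_apply, div_mul_cancel]
  · intro hφ
    rw [mem_loc] at hφ
    refine ⟨D.ρ a⁻¹ φ, ?_, by simp [map_inv, MulAut.apply_inv_self]⟩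
    simp only [SetLike.mem_coe, mem_loc, map_one, MulAut.one_apply]
    rw [D.compat, hφ, ← MulAut.mul_apply, ← map_mul, map_inv D.σ, disp_apply]
    congr 2
    rw [div_eq_mul_inv, inv_mul_cancel_left]

variable [Finite Φ]

omit hσ [Finite A] in
theorem card_map_aut (a : A) (H : Subgroup Φ) :
    Nat.card (H.map (D.ρ a).toMonoidHom) = Nat.card H :=
  (Nat.card_congr (H.equivMapOfInjective _ (D.ρ a).injective).toEquiv).symm

/-- The size of an invariant subgroup. -/
theorem card_eq (P : Subgroup Φ) (hP : ∀ a, P.map (D.ρ a).toMonoidHom = P) :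
    Nat.card P = 1 + Nat.card D.disp.range * (Nat.card (P ⊓ D.loc 1 : Subgroup Φ) - 1) := by
  classical
  haveI := Fintype.ofFinite A
  haveI := Fintype.ofFinite Φ
  let F : A → Finset Φ := fun i => Finset.univ.filter fun φ => φ ∈ P ⊓ D.loc i ∧ φ ≠ 1
  let I : Finset A := Finset.univ.filter fun i => i ∈ D.disp.range
  have hF : ∀ i ∈ I, (F i).card = Nat.card (P ⊓ D.loc 1 : Subgroup Φ) - 1 := by
    intro i hi
    obtain ⟨a, rfl⟩ := (Finset.mem_filter.1 hi).2
    rw [← D.card_map_aut a (P ⊓ D.loc 1), Subgroup.map_inf _ _ _ (D.ρ a).injective, hP,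
      D.loc_shift, Nat.card_eq_fintype_card, Fintype.card_subtype,
      ← Finset.card_erase_of_mem (a := (1 : Φ)) (by simp)]
    refine congrArg Finset.card (Finset.ext fun φ => ?_)
    simp [F, and_comm]
  have hcover : (Finset.univ.filter fun φ : Φ => φ ∈ P ∧ φ ≠ 1) = I.biUnion F := by
    ext φ
    simp only [Finset.mem_filter, Finset.mem_univ, true_and, Finset.mem_biUnion, F, I,
      Subgroup.mem_inf]
    constructor
    · rintro ⟨hφP, hφ⟩
      obtain ⟨i, hi, h⟩ := D.exists_disp_eq hσ hφ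
      exact ⟨i, hi, ⟨hφP, h⟩, hφ⟩
    · rintro ⟨i, -, ⟨hφP, -⟩, hφ⟩
      exact ⟨hφP, hφ⟩
  have hdisj : (I : Set A).PairwiseDisjoint F := by
    intro i hi j hj hij
    refine Finset.disjoint_left.2 fun φ h1 h2 => hij ?_
    simp only [F, Finset.mem_filter, Subgroup.mem_inf, mem_loc] at h1 h2
    exact D.disp_unique hσ h1.2.2 (Finset.mem_filter.1 hi).2 (Finset.mem_filter.1 hj).2
      (h1.2.1.2.symm.trans h2.2.1.2)
  have h := congrArg Finset.card hcover
  rw [Finset.card_biUnion hdisj, Finset.sum_congr rfl hF, Finset.sum_const, smul_eq_mul,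
    show (Finset.univ.filter fun φ : Φ => φ ∈ P ∧ φ ≠ 1) =
      (Finset.univ.filter fun φ : Φ => φ ∈ P).erase 1 by ext; simp [and_comm],
    Finset.card_erase_of_mem (by simp), ← Fintype.card_subtype, ← Nat.card_eq_fintype_card] at h
  have hI : I.card = Nat.card D.disp.range := by
    rw [Nat.card_eq_fintype_card, Fintype.card_subtype]
  have hpos : 0 < Nat.card P := Nat.card_pos
  rw [hI] at h
  omega

theorem card_eq_top : Nat.card Φ = 1 + Nat.card D.disp.range * (Nat.card (D.loc 1) - 1) := by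
  have h := D.card_eq hσ ⊤ fun a => Subgroup.map_top_of_surjective _ (D.ρ a).surjective
  rwa [Subgroup.card_top, top_inf_eq] at h

/-- No proper nontrivial subgroup is invariant. -/
theorem eq_bot_or_top (hQ : 1 < Nat.card D.disp.range) (P : Subgroup Φ)
    (hP : ∀ a, P.map (D.ρ a).toMonoidHom = P) (hPs : P.map D.s.toMonoidHom = P) : P = ⊥ ∨ P = ⊤ := by
  classical
  haveI := Fintype.ofFinite A
  haveI := Fintype.ofFinite Φ
  have h1 := D.card_eq hσ P hP
  have h0 := D.card_eq_top hσ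
  set c := Nat.card (D.loc 1) with hc
  set c₁ := Nat.card (P ⊓ D.loc 1 : Subgroup Φ) with hc₁
  set d := P.relIndex (D.loc 1) with hd
  have hcd : c = d * c₁ := by
    rw [hd, hc₁, ← Subgroup.inf_relIndex_right, hc, Subgroup.relIndex]
    rw [← Subgroup.index_mul_card ((P ⊓ D.loc 1).subgroupOf (D.loc 1))]
    congr 1
    exact Nat.card_congr (Subgroup.subgroupOfEquivOfLe inf_le_right).toEquiv
  have hK : ∀ a, Nat.card (P ⊔ D.loc (D.disp a) : Subgroup Φ) = d * Nat.card P := by
    intro a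
    have e : (P ⊔ D.loc (D.disp a) : Subgroup Φ) = (P ⊔ D.loc 1).map (D.ρ a).toMonoidHom := by
      rw [Subgroup.map_sup, hP, D.loc_shift]
    rw [e, D.card_map_aut, hd, ← Subgroup.relIndex_sup_right, sup_comm, Subgroup.relIndex,
      ← Subgroup.index_mul_card (P.subgroupOf (D.loc 1 ⊔ P))]
    congr 1
    exact Nat.card_congr (Subgroup.subgroupOfEquivOfLe le_sup_right).toEquiv
  let F : A → Finset Φ := fun i => Finset.univ.filter fun φ => φ ∈ P ⊔ D.loc i ∧ φ ∉ P
  let I : Finset A := Finset.univ.filter fun i => i ∈ D.disp.range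
  have hF : ∀ i ∈ I, (F i).card = (d - 1) * Nat.card P := by
    intro i hi
    obtain ⟨a, rfl⟩ := (Finset.mem_filter.1 hi).2
    have e : F (D.disp a) = (Finset.univ.filter fun φ => φ ∈ P ⊔ D.loc (D.disp a)) \
        (Finset.univ.filter fun φ => φ ∈ P) := by ext; simp [F]
    rw [e, Finset.card_sdiff_of_subset
      (fun φ h => by simp only [Finset.mem_filter, Finset.mem_univ, true_and] at h ⊢
                     exact Subgroup.mem_sup_left h),
      ← Fintype.card_subtype, ← Fintype.card_subtype, ← Nat.card_eq_fintype_card,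
      ← Nat.card_eq_fintype_card, hK a, tsub_mul, one_mul]
  have hloc : ∀ i φ, φ ∈ P ⊔ D.loc i → D.s φ / D.ρ i φ ∈ P := by
    intro i φ hφ
    obtain ⟨x, hx, y, hy, rfl⟩ := Subgroup.mem_sup.1 hφ
    rw [mem_loc] at hy
    rw [map_mul, map_mul, hy, mul_div_mul_right_eq_div]
    exact div_mem (hPs ▸ Subgroup.mem_map_of_mem _ hx) (hP i ▸ Subgroup.mem_map_of_mem _ hx)
  have hcover : (Finset.univ.filter fun φ : Φ => φ ∉ P) = I.biUnion F := by
    ext φ
    simp only [Finset.mem_filter, Finset.mem_univ, true_and, Finset.mem_biUnion, F, I]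
    constructor
    · intro hφ
      obtain ⟨i, hi, h⟩ := D.exists_disp_eq hσ (fun e : φ = 1 => hφ (e ▸ one_mem P))
      exact ⟨i, hi, Subgroup.mem_sup_right h, hφ⟩
    · rintro ⟨i, -, -, hφ⟩
      exact hφ
  have hdisj : (I : Set A).PairwiseDisjoint F := by
    intro i hi j hj hij
    refine Finset.disjoint_left.2 fun φ hφi hφj => hij ?_
    simp only [F, Finset.mem_filter] at hφi hφj
    have hφP := hφi.2.2
    have h : D.ρ i φ / D.ρ j φ ∈ P := by
      have := div_mem (hloc j φ hφj.2.1) (hloc i φ hφi.2.1)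
      rwa [div_div_div_cancel_left] at this
    by_contra hne
    set k := j⁻¹ * i with hk
    let θ : Φ →* Φ := MonoidHom.mk' (fun x => D.ρ k x / x) fun x y => by simp [mul_div_mul_comm]
    have hθ : Function.Injective θ := by
      refine (injective_iff_map_eq_one θ).2 fun x hx => by_contra fun hx1 => hne ?_
      change D.ρ k x / x = 1 at hx
      rw [div_eq_one] at hx
      refine D.disp_unique hσ hx1 (Finset.mem_filter.1 hi).2 (Finset.mem_filter.1 hj).2 ?_
      have := congrArg (D.ρ j) hx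
      rwa [hk, ← MulAut.mul_apply, ← map_mul, mul_inv_cancel_left] at this
    have hθP : P.map θ = P := by
      refine Subgroup.eq_of_le_of_card_ge ?_ ?_
      · rintro _ ⟨x, hx, rfl⟩
        exact div_mem (hP k ▸ Subgroup.mem_map_of_mem _ hx) hx
      · rw [← Nat.card_congr (P.equivMapOfInjective θ hθ).toEquiv]
    have h' : θ φ ∈ P := by
      have := Subgroup.mem_map_of_mem (D.ρ j⁻¹).toMonoidHom h
      rw [hP, MulEquiv.coe_toMonoidHom, map_div, ← MulAut.mul_apply, ← MulAut.mul_apply, ← map_mul,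
        ← map_mul, inv_mul_cancel, map_one, MulAut.one_apply] at this
      exact this
    rw [← hθP] at h'
    obtain ⟨x, hx, he⟩ := h'
    exact hφP (hθ he ▸ hx)
  have h2 := congrArg Finset.card hcover
  rw [Finset.card_biUnion hdisj, Finset.sum_congr rfl hF, Finset.sum_const, smul_eq_mul,
    Finset.filter_not, Finset.card_sdiff_of_subset (Finset.subset_univ _), Finset.card_univ,
    ← Fintype.card_subtype, ← Nat.card_eq_fintype_card, ← Nat.card_eq_fintype_card] at h2
  have hI : I.card = Nat.card D.disp.range := by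
    rw [Nat.card_eq_fintype_card, Fintype.card_subtype]
  rw [hI] at h2
  set Q := Nat.card D.disp.range
  set n := Nat.card Φ
  set n₁ := Nat.card P with hn₁
  have hd0 : 1 ≤ d := by
    rcases Nat.eq_zero_or_pos d with h | h
    · rw [h, zero_mul] at hcd
      have : 0 < c := Nat.card_pos
      omega
    · exact h
  have hc₁0 : 1 ≤ c₁ := Nat.card_pos
  obtain ⟨d', hd'eq⟩ : ∃ d', d = d' + 1 := ⟨d - 1, by omega⟩
  obtain ⟨e, he⟩ : ∃ e, c₁ = e + 1 := ⟨c₁ - 1, by omega⟩
  rw [he, Nat.add_sub_cancel] at h1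
  have hc' : c - 1 = d' * (e + 1) + e := by rw [hcd, he, hd'eq, Nat.add_mul, one_mul]; omega
  rw [hc'] at h0
  rw [hd'eq, Nat.add_sub_cancel] at h2
  have hle : n₁ ≤ n := Subgroup.card_le_card_group P
  have h3 : Q * (d' * (e + 1)) = Q * (d' * n₁) := by
    rw [← h2]
    have h4 : Q * (d' * (e + 1) + e) = Q * (d' * (e + 1)) + Q * e := Nat.mul_add ..
    omega
  rcases Nat.eq_zero_or_pos d' with hd' | hd'
  · right
    refine Subgroup.eq_top_of_card_eq P ?_
    show n₁ = n
    rw [hd', zero_mul, zero_add] at h0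
    omega
  · left
    have h4 : e + 1 = n₁ := Nat.eq_of_mul_eq_mul_left hd'
      (Nat.eq_of_mul_eq_mul_left (by omega : 0 < Q) h3)
    have he0 : e = 0 := by
      by_contra hne
      have h5 : 2 * e ≤ Q * e := Nat.mul_le_mul_right e hQ
      omega
    exact Subgroup.card_eq_one.1 (by omega)

end OrbitData

/-- Two prime powers with the same displacement number are equal. -/
theorem eq_of_count {s a b a' b' Q : ℕ} (hs : s.Prime) (hQ : 1 < Q) (hba : b ≤ a) (hba' : b' ≤ a')
    (ha : 0 < a) (ha' : 0 < a') (h : s ^ a = 1 + Q * (s ^ b - 1))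
    (h' : s ^ a' = 1 + Q * (s ^ b' - 1)) : s ^ a = s ^ a' := by
  have key : ∀ {a b : ℕ}, b ≤ a → 0 < a → s ^ a = 1 + Q * (s ^ b - 1) →
      s ^ b ∣ Q - 1 ∧ ¬ s ^ (b + 1) ∣ Q - 1 := by
    intro a b hba ha h
    have h1 : 1 ≤ s ^ b := Nat.one_le_pow _ _ hs.pos
    have hb : 0 < b := by
      by_contra hb
      rw [show b = 0 by omega, pow_zero, Nat.sub_self, mul_zero, add_zero] at h
      exact (Nat.one_lt_pow ha.ne' hs.one_lt).ne' h
    obtain ⟨k, rfl⟩ : ∃ k, a = b + k := ⟨a - b, by omega⟩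
    have h2 : (s : ℤ) ^ (b + k) = 1 + (Q : ℤ) * ((s : ℤ) ^ b - 1) := by
      have := congrArg (fun n : ℕ => (n : ℤ)) h
      push_cast [Nat.cast_sub h1] at this
      exact this
    have h3 : ((Q - 1 : ℕ) : ℤ) = (s : ℤ) ^ b * ((Q : ℤ) - (s : ℤ) ^ k) := by
      rw [Nat.cast_sub hQ.le, Nat.cast_one]
      rw [pow_add] at h2
      linarith
    refine ⟨Int.natCast_dvd_natCast.1 (by rw [h3]; push_cast; exact dvd_mul_right _ _), fun hd => ?_⟩
    have h4 := Int.natCast_dvd_natCast.2 hd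
    rw [h3, Nat.cast_pow, pow_succ] at h4
    have h5 : (s : ℤ) ∣ (Q : ℤ) - (s : ℤ) ^ k :=
      Int.dvd_of_mul_dvd_mul_left (by exact_mod_cast (show s ^ b ≠ 0 by positivity)) h4
    have hk : k ≠ 0 := by
      rintro rfl
      rw [add_zero] at h
      have h6 : Q * (s ^ b - 1) = 1 * (s ^ b - 1) := by rw [one_mul]; omega
      have h7 : 0 < s ^ b - 1 := Nat.sub_pos_of_lt (Nat.one_lt_pow hb.ne' hs.one_lt)
      exact absurd (Nat.eq_of_mul_eq_mul_right h7 h6) hQ.ne'
    have hQs : (s : ℤ) ∣ (Q : ℤ) := (dvd_sub_left (dvd_pow_self _ hk)).1 h5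
    have h8 : (s : ℤ) ∣ 1 := by
      have e : (1 : ℤ) = (s : ℤ) ^ (b + k) - (Q : ℤ) * ((s : ℤ) ^ b - 1) := by rw [h2]; ring
      rw [e]
      exact dvd_sub (dvd_pow_self _ (by omega)) (hQs.mul_right _)
    exact hs.not_dvd_one (Int.natCast_dvd_natCast.1 (by simpa using h8))
  obtain ⟨h1, h2⟩ := key hba ha h
  obtain ⟨h1', h2'⟩ := key hba' ha' h'
  have hb : b = b' := by
    rcases lt_trichotomy b b' with hlt | he | hgt
    · exact absurd ((Nat.pow_dvd_pow s hlt).trans h1') h2
    · exact he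
    · exact absurd ((Nat.pow_dvd_pow s hgt).trans h1) h2'
  rw [h, h', hb]

end CfsgLib.Char.NoDivide
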