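import Cfsg.Agent.Lib.Char.DegreeComponents
import Cfsg.Agent.Lib.Char.NoDivide.Extend
import Cfsg.Agent.Lib.Char.CliffordAbelian
import Cfsg.Agent.Lib.CharDeep.Relative

/-!
# Extending linear characters of a normal subgroup, and twisting by an orbit of them
-/

set_option autoImplicit false

namespace CfsgLib.Char.NoDivide

open CfsgLib CfsgLib.Char CfsgLib.Char.LinearOverNormal

universe u

variable {G : Type u} [Group G] [Fintype G] {N : Subgroup G} [hN : N.Normal]

omit [Fintype G] hN in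
theorem exists_root {ν : N →* ℂˣ} {r k : ℕ} (hν : ν ^ r = 1) (hk : k.Coprime r) :
    ∃ i : ℕ, (ν ^ k) ^ i = ν := by
  refine exists_pow_eq_self_of_coprime (x := ν) ?_
  exact Nat.Coprime.coprime_dvd_right (orderOf_dvd_of_pow_eq_one (x := ν) hν) hk

/-- A character whose restriction is a multiple, prime to the exponent, of a linear character
yields an extension of that character. -/
theorem exists_ext_of_char {S : Subgroup G} (hNS : N ≤ S) {ψ : S → ℂ} (hψ : Cfsg.IsCharacter S ψ)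
    {ν : N →* ℂˣ} {r k : ℕ} (hν : ν ^ r = 1) (hk : k.Coprime r)
    (hres : ∀ n : N, ψ ⟨n, hNS n.2⟩ = (k : ℂ) * (ν n : ℂ)) :
    ∃ f : S →* ℂˣ, ∀ n : N, f ⟨n, hNS n.2⟩ = ν n := by
  classical
  let ι : N →* S := Subgroup.inclusion hNS
  have hc : Cfsg.IsCharacter N (ψ ∘ ι) := IsCharacter.comp hψ ι
  have hk' : Cfsg.IsCharacter N (k • fn ν) := IsCharacter.nsmul (isCharacter_hom ν) k
  have e : ψ ∘ ι = k • fn ν := funext fun n => (hres n).trans (by simp [fn])
  have h2 : det hc = ν ^ k := by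
    rw [det_congr hc hk' e, det_nsmul (isCharacter_hom ν) k hk', det_linear]
  obtain ⟨i, hi⟩ := exists_root hν hk
  refine ⟨det hψ ^ i, fun n => ?_⟩
  have h3 := det_comp hψ ι hc
  rw [h2] at h3
  rw [← DFunLike.congr_fun hi n, h3]
  rfl

variable [Fintype N]

/-- An irreducible character over `ν` of degree prime to `r` gives an extension to the stabiliser. -/
theorem exists_ext_stab_of_irr {ξ : G → ℂ} (hξ : Cfsg.IsIrrCharacter G ξ) {ν : N →* ℂˣ} {r : ℕ}
    (hr : r.Prime) (hν : ν ^ r = 1) (ho : Over ξ (fn ν)) (hrξ : ¬ r ∣ Cfsg.charDegree ξ) :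
    ¬ r ∣ (stab (G := G) (fn ν)).index ∧ ∃ f : stab (G := G) (fn ν) →* ℂˣ,
      ∀ n : N, f ⟨n, le_stab (IsIrrCharacter.isClassFunction (isIrrCharacter_hom ν)) n.2⟩ = ν n := by
  classical
  set S := stab (G := G) (fn ν)
  have hNS : N ≤ S := le_stab (IsIrrCharacter.isClassFunction (isIrrCharacter_hom ν))
  haveI := Fintype.ofFinite S
  obtain ⟨ψ, hψ, hc, he⟩ := exists_eq_indFun_inertia hNS (isIrrCharacter_hom ν)
    (isInertia_stab (fn ν)) hξ ho
  obtain ⟨k, -, hk⟩ := IsIrrCharacter.apply_one_eq hψ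
  haveI := Fintype.ofFinite (N.subgroupOf S)
  let e : N.subgroupOf S ≃* N := Subgroup.subgroupOfEquivOfLe hNS
  obtain ⟨j, -, -, hj⟩ := CharDeep.Clifford.restrict_eq_smul (N.subgroupOf S) hψ
    (IsIrrCharacter.comp_equiv (isIrrCharacter_hom ν) e)
    (by
      have h := classInner_resLe hNS ψ (fn ν)
      exact fun h0 => hc (h.symm.trans h0))
    (fun g n => congrFun (mem_stab.1 g.2) (e n))
  have hres : ∀ n : N, ψ ⟨n, hNS n.2⟩ = (k : ℂ) * (ν n : ℂ) := by
    intro n
    have h1 := congrFun hj 1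
    simp only [Pi.smul_apply, Function.comp_apply, map_one, Units.val_one, OneMemClass.coe_one,
      smul_eq_mul, mul_one] at h1
    rw [← hk, h1]
    exact congrFun hj ⟨⟨n, hNS n.2⟩, n.2⟩
  have hdeg : Cfsg.charDegree ξ = S.index * k := by
    have h := (CfsgLib.Char.DegreeComponents.degree_spec hξ).2
    conv_lhs at h => rw [he, indFun_one, hk]
    exact_mod_cast h.symm
  rw [hdeg] at hrξ
  exact ⟨fun h => hrξ (h.mul_right k), exists_ext_of_char hNS (IsIrrCharacter.isCharacter hψ) hν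
    ((hr.coprime_iff_not_dvd.2 fun h => hrξ (h.mul_left _)).symm) hres⟩

omit [Fintype N] in
/-- An extension propagates across a coprime index. -/
theorem exists_ext_coprime_index {S S' : Subgroup G} [S.Normal] (hNS : N ≤ S) (hSS' : S ≤ S')
    {ν : N →* ℂˣ} {r : ℕ} (hr : r.Prime) (hν : ν ^ r = 1) (hidx : ¬ r ∣ S.index)
    (hS' : ∀ g ∈ S', cj g ν = ν) {f : S →* ℂˣ} (hf : ∀ n : N, f ⟨n, hNS n.2⟩ = ν n) :
    ∃ f' : S' →* ℂˣ, ∀ n : N, f' ⟨n, hSS' (hNS n.2)⟩ = ν n := by
  classical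
  let K := S.subgroupOf S'
  let e : K ≃* S := Subgroup.subgroupOfEquivOfLe hSS'
  haveI := Fintype.ofFinite S'
  haveI := Fintype.ofFinite K
  let θ : K → ℂ := fun x => (f (e x) : ℂ)
  have hθ : Cfsg.IsCharacter K θ := isCharacter_hom (f.comp e.toMonoidHom)
  refine exists_ext_of_char (hNS.trans hSS') (IsCharacter.indFun K hθ) hν (k := K.index) ?_ ?_
  · exact (hr.coprime_iff_not_dvd.2 fun h => hidx (h.trans (Subgroup.relIndex_dvd_index_of_normal S S'))).symm
  · intro n
    have hnK : (⟨n, hSS' (hNS n.2)⟩ : S') ∈ K := hNS n.2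
    rw [show (⟨(n : G), hSS' (hNS n.2)⟩ : S') = ((⟨_, hnK⟩ : K) : S') from rfl,
      Char.indFun_apply_of_normal, Finset.sum_congr rfl (g := fun _ => ((ν n : ℂˣ) : ℂ))
        (fun x _ => ?_),
      Finset.sum_const, Finset.card_univ, nsmul_eq_mul, ← Nat.card_eq_fintype_card (α := S'),
      ← K.card_mul_index]
    · push_cast
      field_simp [Char.card_ne_zero (G := K)]
    · show ((f _ : ℂˣ) : ℂ) = _
      rw [show ν n = cj (x : G) ν n from (DFunLike.congr_fun (hS' x x.2) n).symm]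
      show _ = ((ν (MulAut.conjNormal (x : G) n) : ℂˣ) : ℂ)
      rw [← hf]
      rfl

omit [Fintype N] in
/-- Some twist by an element of `W` of a character of degree prime to `r` has stabiliser `T`. -/
theorem exists_twist_stab {T : Subgroup G} [T.Normal] (hNT : N ≤ T) {r : ℕ} (hr : r.Prime)
    (W : Subgroup (N →* ℂˣ)) (hWr : ∀ μ ∈ W, μ ^ r = 1)
    (hWs : ∀ μ ∈ W, μ ≠ 1 → stab (G := G) (fn μ) = T) (hcard : T.index < Nat.card W)
    (hext : ∀ μ ∈ W, ∃ f : T →* ℂˣ, ∀ n : N, f ⟨n, hNT n.2⟩ = μ n) {ψ : T → ℂ}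
    (hψ : Cfsg.IsIrrCharacter T ψ) {k : ℕ} (hk : ψ 1 = k) (hrk : ¬ r ∣ k) :
    ∃ θ : T → ℂ, Cfsg.IsIrrCharacter T θ ∧ θ 1 = k ∧ ∀ g, g ∈ T ↔ conjG θ g = θ := by
  classical
  choose ext hextp using hext
  let θ : W → T → ℂ := fun μ => ψ * fun t => (ext μ.1 μ.2 t : ℂ)
  have hθ : ∀ μ, Cfsg.IsIrrCharacter T (θ μ) := fun μ => IsIrrCharacter.mul_hom hψ _
  suffices h : ∃ μ : W, ∀ g, conjG (θ μ) g = θ μ → g ∈ T by
    obtain ⟨μ, hμ⟩ := h
    refine ⟨θ μ, hθ μ, by simp [θ, hk], fun g => ⟨fun hg => ?_, hμ g⟩⟩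
    exact conjG_of_mem (IsIrrCharacter.isClassFunction (hθ μ)) hg
  by_contra hall
  push Not at hall
  choose g hgfix hgT using hall
  let F : W → {q : G ⧸ T // q ≠ 1} := fun μ =>
    ⟨(g μ : G ⧸ T), fun h => hgT μ ((QuotientGroup.eq_one_iff _).1 h)⟩
  have hinj : Function.Injective F := by
    intro a b hab
    have hgg : (g a)⁻¹ * g b ∈ T := QuotientGroup.eq.1 (congrArg Subtype.val hab)
    -- both twists are fixed by `g a`
    have hfb : conjG (θ b) (g a) = θ b := by
      have h1 : g b * ((g a)⁻¹ * g b)⁻¹ = g a := by group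
      rw [← h1, ← conjG_mul, hgfix b, conjG_of_mem (IsIrrCharacter.isClassFunction (hθ b)) (inv_mem hgg)]
    set h := g a
    have hdet : ∀ μ : W, conjG (θ μ) h = θ μ →
        cj h (det (IsIrrCharacter.isCharacter hψ) * ext μ.1 μ.2 ^ k) =
          det (IsIrrCharacter.isCharacter hψ) * ext μ.1 μ.2 ^ k := by
      intro μ hμ
      have hc := IsIrrCharacter.isCharacter (hθ μ)
      have hc' : Cfsg.IsCharacter T (conjG (θ μ) h) := by rw [hμ]; exact hc
      have e2 := det_conjG hc h hc'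
      rw [det_congr hc' hc hμ] at e2
      rw [← det_mul_linear (IsIrrCharacter.isCharacter hψ) (ext μ.1 μ.2) hk hc]
      exact e2.symm
    have e1 := hdet a (hgfix a)
    have e2 := hdet b hfb
    have hfix : cj h ((a / b : W).1 ^ k) = (a / b : W).1 ^ k := by
      refine MonoidHom.ext fun n => ?_
      have hn : ∀ μ : W, ∀ m : N, ext μ.1 μ.2 ⟨m, hNT m.2⟩ = μ.1 m := fun μ => hextp μ.1 μ.2
      have f1 := DFunLike.congr_fun e1 ⟨n, hNT n.2⟩
      have f2 := DFunLike.congr_fun e2 ⟨n, hNT n.2⟩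
      have hcn : (MulAut.conjNormal h : MulAut T) ⟨n, hNT n.2⟩ =
          ⟨(MulAut.conjNormal h n : N), hNT (MulAut.conjNormal h n).2⟩ := Subtype.ext (by simp)
      simp only [cj, MonoidHom.comp_apply, MulEquiv.coe_toMonoidHom, MonoidHom.mul_apply,
        MonoidHom.pow_apply, hcn, hn] at f1 f2
      have f3 := congrArg₂ (· / ·) f1 f2
      simp only [mul_div_mul_comm, div_self', one_mul] at f3
      simp only [cj, MonoidHom.comp_apply, MulEquiv.coe_toMonoidHom, MonoidHom.pow_apply,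
        Subgroup.coe_div, MonoidHom.div_apply, div_pow]
      exact f3
    by_contra hne
    have hne' : (a / b : W).1 ≠ 1 := fun e => hne (div_eq_one.1 (Subtype.ext e))
    obtain ⟨i, hi⟩ := exists_root (hWr _ (a / b : W).2) ((hr.coprime_iff_not_dvd.2 hrk).symm)
    have hmem : h ∈ stab (G := G) (fn (a / b : W).1) := by
      rw [mem_stab_fn]
      conv_lhs => rw [← hi]
      rw [cj_pow, hfix, hi]
    rw [hWs _ (a / b : W).2 hne'] at hmem
    exact hgT a hmem
  have h1 := Nat.card_le_card_of_injective F hinj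
  have h2 : Nat.card {q : G ⧸ T // q ≠ 1} ≤ T.index :=
    Nat.card_le_card_of_injective Subtype.val Subtype.val_injective
  omega

end CfsgLib.Char.NoDivide
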